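import Mathlib
import Cfsg.Agent.Gr6B.P
import Cfsg.Agent.Gr6B.I
import Cfsg.Agent.Gr6B.CB
import Cfsg.Agent.Gr.InnB
import Cfsg.Agent.Gr.SubA
import Cfsg.Agent.Gr6.Two

/-!
Groups with a standard subgroup `2·B` (see `stubs/Cfsg/Agent/Gr7/PLAN.md`): definitions.
-/

set_option autoImplicit false

namespace Cfsg.Agent.Gr7

open Subgroup Cfsg.Agent.Spor Cfsg.Agent.Spor.Leech Cfsg.Agent.Gr Cfsg.Agent.Gr6B

/-! ### Inside `K` -/

/-- The centraliser of two elements. -/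
def Pc (s a : K) : Subgroup K := centralizer {s} ⊓ centralizer {a}

variable {s a l g n : K} {N : Subgroup K}

theorem mem_Pc : g ∈ Pc s a ↔ s * g = g * s ∧ a * g = g * a := by
  simp only [Pc, mem_inf, mem_centralizer_singleton_iff, eq_comm]

theorem Pc_zz : Pc t0 zz = CC := rfl

theorem comm_cj (k : K) {x y : K} : k * x * k⁻¹ * (k * y * k⁻¹) = k * y * k⁻¹ * (k * x * k⁻¹) ↔ x * y = y * x := by
  rw [conj_mul, conj_mul, mul_left_inj, mul_right_inj]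

theorem cj_mem_Pc (k : K) : k * g * k⁻¹ ∈ Pc (k * s * k⁻¹) (k * a * k⁻¹) ↔ g ∈ Pc s a := by
  rw [mem_Pc, mem_Pc, comm_cj, comm_cj]

theorem Pc_cj (k : K) : Pc (k * s * k⁻¹) (k * a * k⁻¹) = (Pc s a).map (MulAut.conj k).toMonoidHom := by
  ext x
  obtain ⟨y, rfl⟩ : ∃ y, x = k * y * k⁻¹ := ⟨k⁻¹ * x * k, by group⟩
  rw [cj_mem_Pc]
  exact (mem_map_iff_mem (f := (MulAut.conj k).toMonoidHom) (MulAut.conj k).injective).symm

theorem card_Pc_cj (k : K) : Nat.card (Pc (k * s * k⁻¹) (k * a * k⁻¹)) = Nat.card (Pc s a) := by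
  rw [Pc_cj, card_map_of_injective (MulAut.conj k).injective]

theorem Pc_mul : Pc s (s * a) = Pc s a := by
  ext x
  rw [mem_Pc, mem_Pc]
  refine and_congr_right fun h => ?_
  rw [mul_assoc, ← mul_assoc x, ← h, mul_assoc, mul_right_inj]

/-- `l` lies in the four-group generated by `s` and `a`. -/
def Four (s a l : K) : Prop := l = 1 ∨ l = s ∨ l = a ∨ l = s * a

theorem four_cj (k : K) : Four (k * s * k⁻¹) (k * a * k⁻¹) (k * l * k⁻¹) ↔ Four s a l := by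
  simp only [Four, conj_mul, mul_left_inj, mul_right_inj, conj_eq_one_iff]

theorem four_mul (h : s * s = 1) : Four s (s * a) l ↔ Four s a l := by
  rw [Four, Four, ← mul_assoc, h, one_mul, or_comm (a := l = a)]

/-- `a` is of type `z` or `tz` relative to `s`. -/
def ZT (s a : K) : Prop :=
  a * a = 1 ∧ a ≠ 1 ∧ a ≠ s ∧ s * a = a * s ∧ (a ∈ DD ↔ s * a ∉ DD)

/-- `a` is of type `u` relative to `s`. -/
def UT (s a : K) : Prop := a * a = 1 ∧ a ≠ 1 ∧ s * a = a * s ∧ a ∉ DD ∧ s * a ∉ DD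

theorem types (h2 : a * a = 1) (h1 : a ≠ 1) (hs : a ≠ s) (hc : s * a = a * s) :
    (a ∈ DD ∧ s * a ∈ DD) ∨ ZT s a ∨ UT s a := by
  rw [ZT, UT]; tauto

theorem ZT.cj (h : ZT s a) (k : K) : ZT (k * s * k⁻¹) (k * a * k⁻¹) := by
  obtain ⟨h1, h2, h3, h4, h5⟩ := h
  refine ⟨by rw [conj_mul, h1]; group, by simpa using h2, by simpa using h3, (comm_cj k).2 h4, ?_⟩
  rwa [conj_mul, mem_DD_conj, mem_DD_conj]

theorem ZT.std (hs : s ∈ DD) (h : ZT s a) :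
    ∃ k : K, k * s * k⁻¹ = t0 ∧ (k * a * k⁻¹ = zz ∨ k * a * k⁻¹ = t0 * zz) := by
  obtain ⟨h1, h2, h3, h4, h5⟩ := h
  by_cases ha : a ∈ DD
  · obtain ⟨k, k1, k2⟩ := O2_std hs (mem_O2_of_comm hs ha h3.symm h4 (h5.1 ha))
    exact ⟨k, k1, .inr (k2.trans zz_comm_t0)⟩
  · have hb : s * a ∈ DD := not_not.1 (mt h5.2 ha)
    obtain ⟨k, k1, k2⟩ := O2_conj_zz hs (mem_O2_of_comm hs hb (fun e => h2 (left_eq_mul.1 e))
      (by rw [mul_assoc s a s, ← h4]) (by rwa [DD_mul_cancel hs]))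
    exact ⟨k, k1, .inl (by rwa [DD_mul_cancel hs] at k2)⟩

theorem UT.std (hs : s ∈ DD) (h : UT s a) : ∃ k : K, k * a * k⁻¹ = zz ∧ k * s * k⁻¹ ∈ DD ∧
    zz * (k * s * k⁻¹) = k * s * k⁻¹ * zz ∧ k * s * k⁻¹ ∉ QK := by
  obtain ⟨h1, h2, h4, h5, h6⟩ := h
  obtain ⟨k, hk⟩ := isConj_iff.1 ((Gr6.K_two a h1 h2).resolve_right h5).symm
  refine ⟨k, hk, conj_mem_DD k hs, by rw [← hk]; exact (comm_cj k).2 h4.symm, fun hq => h6 ?_⟩
  obtain ⟨e, v, hv, he⟩ := exists_tq (conj_mem_DD k hs) hq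
  rw [← mem_DD_conj (g := k), ← conj_mul, hk, he, tq_mul_zz]
  exact tq_cls_mem _ hv

/-- `N` is normal in the centraliser of `s` and `a`. -/
structure Nm (s a : K) (N : Subgroup K) : Prop where
  le : N ≤ Pc s a
  norm : ∀ g ∈ Pc s a, ∀ n ∈ N, g * n * g⁻¹ ∈ N

theorem cj_mem_map (k : K) : k * n * k⁻¹ ∈ N.map (MulAut.conj k).toMonoidHom ↔ n ∈ N :=
  mem_map_iff_mem (f := (MulAut.conj k).toMonoidHom) (MulAut.conj k).injective

theorem Nm.cj (h : Nm s a N) (k : K) :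
    Nm (k * s * k⁻¹) (k * a * k⁻¹) (N.map (MulAut.conj k).toMonoidHom) := by
  refine ⟨Pc_cj k ▸ map_mono h.le, fun g hg n hn => ?_⟩
  rw [Pc_cj] at hg
  obtain ⟨g, hg, rfl⟩ := hg
  obtain ⟨n, hn, rfl⟩ := hn
  exact ⟨_, h.norm g hg n hn, by simp only [map_mul, map_inv]⟩

theorem Nm.mul (h : Nm s a N) : Nm s (s * a) N := ⟨by rw [Pc_mul]; exact h.le, by rw [Pc_mul]; exact h.norm⟩

theorem Nm.comm_mem (h : Nm s a N) (hg : g ∈ Pc s a) (hn : n ∈ N) : n * g * n⁻¹ * g⁻¹ ∈ N := by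
  simpa only [mul_assoc] using mul_mem hn (h.norm g hg _ (inv_mem hn))

/-- The configuration that arises from two commuting conjugates of the central involution. -/
structure SM (s a l : K) (N : Subgroup K) : Prop extends Nm s a N where
  ns : s ∉ N
  cen : ∀ n ∈ N, n * n = 1 → n ≠ 1 → ∀ g ∈ Pc s n, a * g = g * a
  mem : l ∈ Pc s a
  comm : ∀ x ∈ Pc s a, l * x * l⁻¹ * x⁻¹ ∈ N

theorem SM.cj (h : SM s a l N) (k : K) :
    SM (k * s * k⁻¹) (k * a * k⁻¹) (k * l * k⁻¹) (N.map (MulAut.conj k).toMonoidHom) := by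
  refine ⟨h.toNm.cj k, mt (cj_mem_map k).1 h.ns, ?_, (cj_mem_Pc k).2 h.mem, fun x hx => ?_⟩
  · rintro _ ⟨n, hn, rfl⟩ h2 h1 g hg
    obtain ⟨g, rfl⟩ : ∃ y, g = k * y * k⁻¹ := ⟨k⁻¹ * g * k, by group⟩
    exact (comm_cj k).2 (h.cen n hn (by rw [← map_mul] at h2; exact conj_eq_one_iff.1 h2)
      (fun e => h1 (by rw [e, map_one])) g ((cj_mem_Pc k).1 hg))
  · rw [Pc_cj] at hx
    obtain ⟨x, hx, rfl⟩ := hx
    exact ⟨_, h.comm x hx, by simp only [map_mul, map_inv]; rfl⟩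

theorem SM.mul (h : SM s a l N) : SM s (s * a) l N :=
  ⟨h.toNm.mul, h.ns, fun n hn h2 h1 g hg => by
    rw [mul_assoc, h.cen n hn h2 h1 g hg, ← mul_assoc, (mem_Pc.1 hg).1, mul_assoc],
    by rw [Pc_mul]; exact h.mem, by rw [Pc_mul]; exact h.comm⟩

/-- The group generated by `zz, t0, s0`. -/
def RK : Subgroup K where
  carrier := {x | ∃ e c, TriV.InR c ∧ x = tq e c}
  one_mem' := ⟨0, 0, .inl rfl, tq_zero.symm⟩
  mul_mem' := by
    rintro _ _ ⟨e, c, hc, rfl⟩ ⟨f, d, hd, rfl⟩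
    refine ⟨_, _, ?_, tq_mul e f c d⟩
    have k : ∀ x y : LL, x + (x + y) = y ∧ x + y + x = y ∧ y + (x + y) = x ∧ x + y + y = x := fun x y => by
      have := Gr.ll_add_self x
      have := Gr.ll_add_self y
      refine ⟨?_, ?_, ?_, ?_⟩ <;> grind
    obtain ⟨k1, k2, -, k4⟩ := k (cls v1) (cls v2)
    rcases hc with rfl | rfl | rfl | rfl <;> rcases hd with rfl | rfl | rfl | rfl <;>
      simp [TriV.InR, Gr.ll_add_self, add_comm (cls v2), k1, k2, k4]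
  inv_mem' := by rintro _ ⟨e, c, hc, rfl⟩; exact ⟨_, _, hc, ActH.tq_inv e c⟩

theorem mem_RK : g ∈ RK ↔ ∃ e c, TriV.InR c ∧ g = tq e c := Iff.rfl

/-- The stabiliser of `{t0, zz * t0}` in the centraliser of `zz`. -/
def N0 : Subgroup K where
  carrier := {k | zz * k = k * zz ∧ Eqv zz (k * t0 * k⁻¹) t0}
  one_mem' := ⟨by simp, .inl (by simp)⟩
  mul_mem' := by
    rintro x y ⟨h1, h2⟩ ⟨h3, h4⟩
    refine ⟨by rw [← mul_assoc, h1, mul_assoc, h3, mul_assoc], ?_⟩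
    rw [← conj_conj]
    have e : x * zz * x⁻¹ = zz := conj_eq_of_comm h1.symm
    rcases h4 with h4 | h4 <;> rw [h4]
    · exact h2
    · rw [conj_mul', e]
      rcases h2 with h2 | h2 <;> rw [h2]
      exacts [.inr rfl, .inl (by rw [← mul_assoc, zz_mul_self, one_mul])]
  inv_mem' := by
    rintro x ⟨h1, h2⟩
    have h3 : zz * x⁻¹ = x⁻¹ * zz := (show Commute zz x from h1).inv_right
    refine ⟨h3, h2.imp (fun h => ?_) fun h => ?_⟩
    · conv_lhs => rw [← h]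
      group
    · have : t0 = zz * (x * t0 * x⁻¹) := by rw [h, ← mul_assoc, zz_mul_self, one_mul]
      conv_lhs => rw [this, ← mul_assoc, ← h3]
      group

theorem mem_N0 : g ∈ N0 ↔ zz * g = g * zz ∧ Eqv zz (g * t0 * g⁻¹) t0 := Iff.rfl

theorem CC_le_N0 : CC ≤ N0 := fun _ h => ⟨(mem_CC.1 h).2, .inl (conj_eq_of_comm (mem_CC.1 h).1.symm)⟩

theorem QK_le_N0 : QK ≤ N0 := by
  rintro _ ⟨e, c, rfl⟩
  exact ⟨CL.es2.z_comm _ ⟨e, c, rfl⟩, by rw [t0_v1, tq_conj]; exact CL.eqv_tq.2 rfl⟩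

/-- `t0` in `HH`. -/
noncomputable def tH : HH := ⟨t0, mem_centralizer_singleton_iff.2 rfl⟩

/-- `zz` in `HH`. -/
noncomputable def zH : HH := ⟨zz, mem_centralizer_singleton_iff.2 zz_comm_t0⟩

/-- The elements of `QK` in `N0`. -/
noncomputable def qN (e : ZMod 2) (c : LL) : N0 := ⟨tq e c, QK_le_N0 ⟨e, c, rfl⟩⟩

/-- `t0` in `N0`. -/
noncomputable def tN : N0 := ⟨t0, QK_le_N0 t0_mem_QK⟩

/-- `s0` in `N0`. -/
noncomputable def sN : N0 := ⟨s0, QK_le_N0 s0_mem_QK⟩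

/-- `zz` in `N0`. -/
noncomputable def zN : N0 := ⟨zz, QK_le_N0 CL.es2.z_mem⟩

/-- The elements of `QK`. -/
noncomputable def qq (e : ZMod 2) (c : LL) : QK := ⟨tq e c, e, c, rfl⟩

theorem exists_qq (q : QK) : ∃ e c, q = qq e c := let ⟨e, c, h⟩ := q.2; ⟨e, c, Subtype.ext h⟩

/-! ### Inside `G` -/

variable {G : Type*} [Group G]

/-- `ι` maps `HH` onto the centraliser of `ι tH`. -/
structure Ctr0 (ι : HH →* G) : Prop where
  inj : Function.Injective ι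
  onto : ∀ g, ι tH * g = g * ι tH → g ∈ ι.range

/-- The same with the fusion pattern of the Monster. -/
structure Ctr (ι : HH →* G) : Prop extends Ctr0 ι where
  fus : ∀ y : HH, IsConj (ι tH) (ι y) ↔ (y : K) ∈ DD

theorem Ctr0.cj {ι : HH →* G} (h : Ctr0 ι) (g : G) : Ctr0 ((MulAut.conj g).toMonoidHom.comp ι) := by
  refine ⟨(MulAut.conj g).injective.comp h.inj, fun x hx => ?_⟩
  obtain ⟨y, hy⟩ := h.onto (g⁻¹ * x * g) (by
    have := (show Commute _ _ from hx).map (MulAut.conj g⁻¹)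
    simpa [mul_assoc] using this.eq)
  exact ⟨y, by simp [hy, mul_assoc]⟩

/-- `β` maps `N0` onto the stabiliser of `{β tN, z * β tN}` in the centraliser of `z`. -/
structure Bet (D : Set G) (z : G) (β : N0 →* G) : Prop where
  inj : Function.Injective β
  map_z : β zN = z
  onto : ∀ g, z * g = g * z → Eqv z (g * β tN * g⁻¹) (β tN) → g ∈ β.range
  fus : ∀ k : N0, t0 * k = k * t0 → (β k ∈ D ↔ (k : K) ∈ DD)

/-- The class `D` and the involution `z`. -/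
structure Fam (D : Set G) (z : G) : Prop where
  conj : ∀ g : G, ∀ d ∈ D, g * d * g⁻¹ ∈ D
  sq : ∀ d ∈ D, d * d = 1
  ex : ∃ β, Bet D z β
  tr : ∀ d ∈ D, z * d ∈ D → ∀ d' ∈ D, z * d' ∈ D → ∃ g, z * g = g * z ∧ g * d * g⁻¹ = d'
  cz : ∀ d ∈ D, ∀ u, u * u = 1 → u ≠ 1 → d * u ∈ D → u ∉ D → IsConj z u

/-- `h` acts on the image of `QK` as `γ`. -/
def AcG (ψ : QK →* G) (h : G) (γ : Co0) : Prop :=
  ∀ e c, ∃ f, h * ψ (qq e c) * h⁻¹ = ψ (qq f (csm γ c))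

/-- The normaliser `H` of the image of `QK` in the centraliser of `z`. -/
structure HD (D : Set G) (z : G) (ψ : QK →* G) (H : Subgroup G) (π : H →* Cfsg.Spor.Co1) : Prop where
  conj : ∀ g : G, ∀ d ∈ D, g * d * g⁻¹ ∈ D
  sq : ∀ d ∈ D, d * d = 1
  inj : Function.Injective ψ
  map_z : ψ (qq 1 0) = z
  mem : ∀ g, g ∈ H ↔ z * g = g * z ∧ ∀ q, g * ψ q * g⁻¹ ∈ ψ.range
  spec : ∀ (h : H) (γ : Co0), MT.pr γ = π h ↔ AcG ψ h γ
  surj : Function.Surjective π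
  ker : ∀ h : H, π h = 1 → (h : G) ∈ ψ.range
  fus : ∀ q : QK, ψ q ∈ D ↔ (q : K) ∈ DD
  stab : ∀ g, z * g = g * z → ∀ q : QK, (q : K) ∈ DD → g * ψ q * g⁻¹ ∈ ψ.range → g ∈ H
  loc : ∀ x ∈ D, z * x ∈ D → ∀ q : QK, (q : K) ∈ DD → Eqv z (x * ψ q * x⁻¹) (ψ q) → x ∈ ψ.range
  inv : ∀ y ∈ H, y * y = 1 → ∃ q : QK, (q : K) ∈ DD ∧ Eqv z (y * ψ q * y⁻¹) (ψ q)
  out : ∃ y ∈ H, y * y = 1 ∧ y ∉ ψ.range

variable {D : Set G} {z : G} {β : N0 →* G}

theorem Bet.cj (h : Bet D z β) (hD : ∀ g : G, ∀ d ∈ D, g * d * g⁻¹ ∈ D) (g : G) :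
    Bet D (g * z * g⁻¹) ((MulAut.conj g).toMonoidHom.comp β) := by
  refine ⟨(MulAut.conj g).injective.comp h.inj, by simp [h.map_z], fun x h1 h2 => ?_, fun k hk => ?_⟩
  · obtain ⟨y, rfl⟩ : ∃ y, x = g * y * g⁻¹ := ⟨g⁻¹ * x * g, by group⟩
    change Eqv _ (g * y * g⁻¹ * (g * β tN * g⁻¹) * (g * y * g⁻¹)⁻¹) (g * β tN * g⁻¹) at h2
    rw [Eqv, conj_inv, conj_mul, conj_mul, conj_mul, mul_left_inj, mul_right_inj, mul_left_inj, mul_right_inj] at h2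
    rw [conj_mul, conj_mul, mul_left_inj, mul_right_inj] at h1
    obtain ⟨k, rfl⟩ := h.onto y h1 h2
    exact ⟨k, rfl⟩
  · rw [← h.fus k hk]
    exact ⟨fun e => by simpa [mul_assoc] using hD g⁻¹ _ e, hD g _⟩

/-- Change of the marking by an element of `CC`. -/
theorem Bet.remark (h : Bet D z β) (c : N0) (hc : (c : K) ∈ CC) :
    Bet D z (β.comp (MulAut.conj c).toMonoidHom) ∧ β.comp (MulAut.conj c).toMonoidHom tN = β tN := by
  have e : β.comp (MulAut.conj c).toMonoidHom tN = β tN :=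
    congrArg β (Subtype.ext (conj_eq_of_comm (mem_CC.1 hc).1.symm))
  refine ⟨⟨h.inj.comp (MulAut.conj c).injective,
    (congrArg β (Subtype.ext (conj_eq_of_comm (mem_CC.1 hc).2.symm))).trans h.map_z, fun x h1 h2 => ?_,
    fun k hk => ?_⟩, e⟩
  · obtain ⟨k, rfl⟩ := h.onto x h1 (e ▸ h2)
    exact ⟨c⁻¹ * k * c, by simp [mul_assoc]⟩
  · refine (h.fus (c * k * c⁻¹) ?_).trans mem_DD_conj
    exact (mem_centralizer_singleton_iff.1 (mul_mem (mul_mem hc.1 (mem_centralizer_singleton_iff.2 hk.symm))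
      (inv_mem hc.1))).symm

theorem Fam.cj (h : Fam D z) (g : G) : Fam D (g * z * g⁻¹) := by
  have k : ∀ {d}, g * z * g⁻¹ * d ∈ D → z * (g⁻¹ * d * g⁻¹⁻¹) ∈ D := fun e => by
    simpa [mul_assoc] using h.conj g⁻¹ _ e
  refine ⟨h.conj, h.sq, h.ex.elim fun β b => ⟨_, b.cj h.conj g⟩, fun d h1 h2 d' h3 h4 => ?_,
    fun d h1 u h2 h3 h4 h5 => (isConj_iff.2 ⟨g, rfl⟩).symm.trans (h.cz d h1 u h2 h3 h4 h5)⟩
  obtain ⟨x, h5, h6⟩ := h.tr _ (h.conj g⁻¹ d h1) (k h2) _ (h.conj g⁻¹ d' h3) (k h4)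
  refine ⟨g * x * g⁻¹, by rw [conj_mul, conj_mul, h5], ?_⟩
  calc _ = g * (x * (g⁻¹ * d * g⁻¹⁻¹) * x⁻¹) * g⁻¹ := by group
    _ = d' := by rw [h6]; group

theorem Bet.t_mem (h : Bet D z β) : β tN ∈ D ∧ z * β tN ∈ D := by
  refine ⟨(h.fus tN rfl).2 t0_mem, ?_⟩
  rw [← h.map_z, ← map_mul]
  exact (h.fus (zN * tN) (by
    change t0 * (zz * t0) = zz * t0 * t0
    rw [← mul_assoc, ← zz_comm_t0])).2 zt0_mem.1

/-- Every `d ∈ D` with `z * d ∈ D` is the image of `tN` in some marking. -/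
theorem Fam.exists_bet (h : Fam D z) {d : G} (h1 : d ∈ D) (h2 : z * d ∈ D) : ∃ β, Bet D z β ∧ β tN = d := by
  obtain ⟨β, b⟩ := h.ex
  obtain ⟨g, h3, h4⟩ := h.tr _ b.t_mem.1 b.t_mem.2 d h1 h2
  have := b.cj h.conj g
  rw [← h3, mul_inv_cancel_right] at this
  exact ⟨_, this, h4⟩

end Cfsg.Agent.Gr7
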