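import Mathlib
import Cfsg.Agent.Gr7.Defs
import Cfsg.Agent.Std.Co0F

/-! Facts on the Leech lattice modulo two: faithfulness on the section of dimension twenty,
generation by short classes, and fixed short vectors of involutions. -/

set_option autoImplicit false

namespace Cfsg.Agent.Gr7

open Subgroup Cfsg.Agent.Spor Cfsg.Agent.Spor.Leech Cfsg.Agent.Gr Cfsg.Agent.Gr6B

namespace FaithH

open Finset
open scoped symmDiff Pointwise

/-- The three points carrying `v1` and `v2`. -/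
def T3 : Finset GolayPt := {none, some 0, some 1}

theorem card_T3 : T3.card ≤ 3 := card_le_three

theorem ip_off {j k : GolayPt} (hj : j ∉ T3) (hk : k ∉ T3) (s t : ℤˣ) :
    ip (v44 j k s t) v1 = 0 ∧ ip (v44 j k s t) v2 = 0 := by
  simp only [T3, mem_insert, mem_singleton, not_or] at hj hk
  rw [TriV.ip_v1, TriV.ip_v2]
  simp [v44_apply, Ne.symm hj.1, Ne.symm hj.2.1, Ne.symm hj.2.2, Ne.symm hk.1, Ne.symm hk.2.1,
    Ne.symm hk.2.2]

theorem fix_short {h : Co0}
    (H : ∀ c, pol c (cls v1) = 0 → pol c (cls v2) = 0 → TriV.InR (csm h c + c)) {v : Λ}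
    (hv : nm v = 32) (a : ip v v1 = 0) (b : ip v v2 = 0) : h • v = v ∨ h • v = -v := by
  have hs : nm (h • v) = 32 := by rw [nm_smul, hv]
  have key : ∀ w : Λ, nm w = 32 → ip v w = 0 → csm h (cls v) + cls v ≠ cls w := fun w hw o e => by
    have : cls v + cls w ∈ ShS := by
      rw [← e, add_comm, add_assoc, Gr6B.ll_add_self, add_zero, csm_cls]
      exact cls_mem_ShS hs
    rw [add_mem_ShS hv hw, o] at this
    omega
  rcases H (cls v) (pol_cls_iff.2 (by simp [a])) (pol_cls_iff.2 (by simp [b])) with e | e | e | e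
  · rw [← cls_eq_iff_short hs hv, ← csm_cls]
    exact ll_eq_of_add e
  · exact absurd e (key _ nm_v1 a)
  · exact absurd e (key _ nm_v2 b)
  · rw [← cls_sub] at e
    exact absurd e (key _ nm_v3 (by rw [ip_sub_right, a, b, sub_zero]))

theorem exists_two (j : GolayPt) : ∃ k l, k ∉ T3 ∧ l ∉ T3 ∧ j ≠ k ∧ j ≠ l ∧ k ≠ l := by
  obtain ⟨k, hk⟩ := exists_notMem (t := insert j T3)
    ((card_insert_le _ _).trans_lt (by have := card_T3; omega))
  obtain ⟨l, hl⟩ := exists_notMem (t := insert k (insert j T3))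
    ((card_insert_le _ _).trans_lt (by have := card_T3; have := card_insert_le j T3; omega))
  simp only [mem_insert, not_or] at hk hl
  exact ⟨k, l, hk.2, hl.2.2, Ne.symm hk.1, Ne.symm hl.2.1, Ne.symm hl.1⟩

theorem eq_one_of_fix {σ : M24} (h : ∀ j, j ∉ T3 → σ.1 j = j) : σ = 1 := by
  refine Subtype.ext (Equiv.ext fun a => ?_)
  by_cases ha : a ∈ T3
  swap
  · exact h a ha
  obtain ⟨d, hd, e⟩ := TriV.exists_d a ha
  have h1 : d ∆ (σ.1 • d) = ∅ := (hd.symmDiff (hd.smul σ.2)).eq_empty_of_card_lt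
    ((card_le_card (t := T3) fun i hi => by
      by_contra n
      have : i ∈ σ.1 • d ↔ i ∈ d := by
        nth_rewrite 1 [← h i n]
        exact smul_mem_smul_finset_iff σ.1
      simp [mem_symmDiff, this] at hi).trans_lt (by have := card_T3; omega))
  have h2 : σ.1 a ∈ d := by
    rw [symmDiff_eq_empty.1 h1]
    exact smul_mem_smul_finset ((e a ha).2 rfl)
  by_cases hb : σ.1 a ∈ T3
  · exact (e _ hb).1 h2
  · exact σ.1.injective (h _ hb)

/-- Elements of `QK` whose class is a sum of classes from a set. -/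
theorem tq_mem_of_closure {X : Subgroup K} (hz : zz ∈ X) {S : Set LL}
    (hS : ∀ c ∈ S, tq 0 c ∈ X) {c : LL} (hc : c ∈ AddSubgroup.closure S) (e : ZMod 2) : tq e c ∈ X := by
  refine GenH.tq_mem hz (e := 0) ?_ e
  induction hc using AddSubgroup.closure_induction with
  | mem x hx => exact hS x hx
  | zero => exact tq_zero ▸ one_mem _
  | add x y _ _ a b => exact GenH.tq_mem hz (tq_mul 0 0 x y ▸ mul_mem a b) 0
  | neg x _ a => rwa [ll_neg]

theorem mem_closure_short (c : LL) : c ∈ AddSubgroup.closure (ShS : Set LL) := by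
  obtain ⟨v, rfl⟩ := cls_surjective c
  have k : ∀ w : Λ, nm w = 32 → w ∈ (AddSubgroup.closure (ShS : Set LL)).comap clsH := fun w hw =>
    AddSubgroup.subset_closure (cls_mem_ShS hw)
  have : (AddSubgroup.closure (ShS : Set LL)).comap clsH = ⊤ := by
    refine eq_top_of_gens (fun i hi => k _ (nm_v44 hi _ _)) ?_
      (fun i hi => k _ (by rw [nm_two, card_gb hi]; rfl)) (k _ (by rw [nm_odd1]; rfl))
    have e : e8 none = v44 none (some 0) 1 1 + v44 none (some 0) 1 (-1) := Subtype.ext (funext fun i => by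
      simp only [AddSubgroup.coe_add, Pi.add_apply, e8_apply, v44_apply, Units.val_one, Units.val_neg]
      split_ifs <;> simp_all)
    rw [e]
    exact add_mem (k _ (nm_v44 (by simp) _ _)) (k _ (nm_v44 (by simp) _ _))
  exact (this ▸ AddSubgroup.mem_top v : v ∈ (AddSubgroup.closure (ShS : Set LL)).comap clsH)

theorem fix16_sign {c : Finset GolayPt} (hc : IsCode c) {v : Λ} (hv : nm v = 32) (hf : sign c hc • v = v) :
    ∃ w : Λ, nm w = 32 ∧ ip v w = 16 ∧ sign c hc • w = w := by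
  have off : ∀ i, (v : Vec) i ≠ 0 → i ∉ c := fun i hi m => by
    have := sign_apply c hc v i
    rw [hf, if_pos m] at this
    omega
  rcases shape32 v.2 hv with ⟨p, q, pq, a, b, h⟩ | ⟨o, -, h8, h⟩ | ⟨d, p, -, a, h⟩
  · have hp : p ∉ c := off p (by intro e; simp [e] at a)
    obtain ⟨k, hk, hk'⟩ := exists_mem_notMem (s := cᶜ) (t := {p, q})
      (card_le_two.trans_lt (by have := hc.compl.eight_le ⟨p, mem_compl.2 hp⟩; omega))
    simp only [mem_insert, mem_singleton, not_or] at hk'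
    refine ⟨v44 p k (Leech.sg ((v : Vec) p)) 1, nm_v44 (Ne.symm hk'.1) _ _, ?_, ?_⟩
    · rw [ip_v44, Leech.sg_mul, a, h k hk'.1 hk'.2]; rfl
    · rw [sign_v44, if_neg hp, if_neg (mem_compl.1 hk)]
  · obtain ⟨p, hp, q, hq, pq⟩ := one_lt_card.1 (show 1 < o.card by omega)
    have a := h p
    have b := h q
    rw [if_pos hp] at a
    rw [if_pos hq] at b
    refine ⟨v44 p q (Leech.sg ((v : Vec) p)) (Leech.sg ((v : Vec) q)), nm_v44 pq _ _, ?_, ?_⟩
    · rw [ip_v44, Leech.sg_mul, Leech.sg_mul, a, b]; rfl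
    · rw [sign_v44, if_neg (off p (by intro e; simp [e] at a)), if_neg (off q (by intro e; simp [e] at b))]
  · obtain rfl : c = ∅ := eq_empty_of_forall_notMem fun i => off i fun e => by
      by_cases k : i = p
      · rw [← k, e] at a; simp at a
      · have := h i k; rw [e] at this; simp at this
    obtain ⟨g, rfl⟩ := trans32 nm_v1 hv
    exact ⟨g • v2, by rw [nm_smul, nm_v2], by rw [ip_smul, ip_v1_v2], by rw [sign_empty, one_smul]⟩

theorem perp_sign {c : Finset GolayPt} (hc : IsCode c) (a b : LL) :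
    ∃ x ∈ ShS, csm (sign c hc) x = x ∧ pol x a = 0 ∧ pol x b = 0 := by
  obtain ⟨s, hs, k⟩ : ∃ s : Finset GolayPt, 4 < s.card ∧ ∀ i ∈ s, ∀ j ∈ s, (i ∈ c ↔ j ∈ c) := by
    by_cases h : 4 < c.card
    · exact ⟨c, h, fun i hi j hj => iff_of_true hi hj⟩
    · refine ⟨cᶜ, ?_, fun i hi j hj => iff_of_false (mem_compl.1 hi) (mem_compl.1 hj)⟩
      rw [card_compl, show Fintype.card GolayPt = 24 from rfl]
      omega
  obtain ⟨i, hi, j, hj, ij, e⟩ := exists_ne_map_eq_of_card_lt_of_maps_to (s := s)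
    (t := (univ : Finset (ZMod 2 × ZMod 2))) hs
    (f := fun i => (pol (clB none i) a, pol (clB none i) b)) fun _ _ => mem_coe.2 (mem_univ _)
  simp only [Prod.mk.injEq] at e
  have e0 : clB i j = clB none i + clB none j := by rw [clB_comm none i, clB_add_clB]
  refine ⟨clB i j, clB_mem ij, ?_, ?_, ?_⟩
  · rw [clB_eq_cls, csm_cls, sign_v44]
    by_cases m : i ∈ c
    · rw [if_pos m, if_pos ((k i hi j hj).1 m), ← neg_v44, cls_neg]
    · rw [if_neg m, if_neg (mt (k i hi j hj).2 m)]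
  · rw [e0, pol_add_left, e.1, CharTwo.add_self_eq_zero]
  · rw [e0, pol_add_left, e.2, CharTwo.add_self_eq_zero]

end FaithH

open FaithH

theorem faith {h : Co0}
    (H : ∀ c, pol c (cls v1) = 0 → pol c (cls v2) = 0 → TriV.InR (csm h c + c)) : h = 1 ∨ h = negOne := by
  have key : ∀ j k, j ∉ T3 → k ∉ T3 → j ≠ k → ∀ s t,
      h • v44 j k s t = v44 j k s t ∨ h • v44 j k s t = -v44 j k s t := fun j k hj hk jk s t =>
    fix_short H (nm_v44 jk s t) (ip_off hj hk s t).1 (ip_off hj hk s t).2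
  have hM : h ∈ Mon := by
    obtain ⟨j, k, hj, hk, -, -, jk⟩ := exists_two none
    refine MT.mem_Mon_of_cg (p := j) (cls_eq_iff.1 ?_)
    have e : e8 j = v44 j k 1 1 + v44 j k 1 (-1) := Subtype.ext (funext fun i => by
      simp only [AddSubgroup.coe_add, Pi.add_apply, e8_apply, v44_apply, Units.val_one, Units.val_neg]
      split_ifs <;> simp_all)
    rw [e, co0_smul_add, cls_add, cls_add]
    rcases key j k hj hk jk 1 1 with a | a <;> rcases key j k hj hk jk 1 (-1) with b | b <;>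
      simp only [a, b, cls_neg]
  obtain ⟨c, hc, σ, rfl⟩ := mem_Mon.1 hM
  have h1 : ∀ j k, j ∉ T3 → k ∉ T3 → j ≠ k → σ.1 j = j ∨ σ.1 j = k := fun j k hj hk jk => by
    by_contra n
    rw [not_or] at n
    have a : (((sign c hc * perm σ) • v44 j k 1 1 : Λ) : Vec) (σ.1 j) = 0 := by
      rcases key j k hj hk jk 1 1 with a | a <;> rw [a] <;> simp [v44_apply, n.1, n.2]
    rw [mul_smul, sign_apply, perm_apply'] at a
    split_ifs at a <;> simp [v44_apply, jk] at a
  obtain rfl : σ = 1 := eq_one_of_fix fun j hj => by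
    obtain ⟨k, l, hk, hl, jk, jl, kl⟩ := exists_two j
    exact (h1 j k hj hk jk).elim id fun a => (h1 j l hj hl jl).resolve_right fun b => kl (a.symm.trans b)
  rw [map_one, mul_one] at key ⊢
  have h2 : ∀ j k, j ∉ T3 → k ∉ T3 → j ∈ c → k ∈ c := fun j k hj hk m => by
    by_contra n
    have jk : j ≠ k := fun e => n (e ▸ m)
    rcases key j k hj hk jk 1 1 with a | a
    · have := sign_apply c hc (v44 j k 1 1) j
      rw [a, if_pos m] at this
      simp [v44_apply, jk] at this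
    · have := sign_apply c hc (v44 j k 1 1) k
      rw [a, if_neg n] at this
      simp [v44_apply, jk.symm] at this
  by_cases h3 : c ⊆ T3
  · left
    obtain rfl := hc.eq_empty_of_card_lt ((Finset.card_le_card h3).trans_lt (by have := card_T3; omega))
    exact sign_empty
  · right
    obtain ⟨j, m, hj⟩ := Finset.not_subset.1 h3
    have e : cᶜ = ∅ := hc.compl.eq_empty_of_card_lt ((Finset.card_le_card (t := T3) fun k hk => by
      by_contra n
      exact Finset.mem_compl.1 hk (h2 j k hj n m)).trans_lt (by have := card_T3; omega))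
    have := sign_compl c hc
    rw [sign_congr _ e, sign_empty] at this
    rw [← one_mul (sign c hc), ← negOne_mul_self, mul_assoc, ← this, mul_one]

theorem mem_QK_of_triv {k : K} (hz : zz * k = k * zz) (H : ∀ q ∈ InnB.Q0, k * q * k⁻¹ * q⁻¹ ∈ RK) :
    k ∈ QK := by
  obtain ⟨γ, rfl⟩ := exists_act_of_comm hz
  refine act_mem_QK.2 (faith fun c a b => ?_)
  obtain ⟨e, d, hd, he⟩ := mem_RK.1 (H (tq 0 c) (InnB.mem_Q0.2 ⟨⟨0, c, rfl⟩, tq_mem_SS.2 ⟨a, b⟩⟩))
  rw [act_conj, ActH.tq_inv, tq_mul, tq_inj] at he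
  exact he.2 ▸ hd

theorem Q0_le_closure : InnB.Q0 ≤ closure (DD ∩ (InnB.Q0 : Set K)) := by
  intro q hq
  obtain ⟨⟨e, d, rfl⟩, hS⟩ := InnB.mem_Q0.1 hq
  let S : Set LL := {c | c ∈ ShS ∧ pol c (cls v1) = 0 ∧ pol c (cls v2) = 0}
  have k : ∀ c ∈ S, ∀ f, tq f c ∈ closure (DD ∩ (InnB.Q0 : Set K)) := fun c hc f =>
    subset_closure ⟨tq_mem_DD_iff.2 hc.1, InnB.mem_Q0.2 ⟨⟨f, c, rfl⟩, tq_mem_SS.2 hc.2⟩⟩
  have m2 : cls v2 ∈ S := ⟨cls_mem_ShS nm_v2, p21, pol_self _⟩
  have hz : zz ∈ closure (DD ∩ (InnB.Q0 : Set K)) := by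
    have := mul_mem (k _ m2 (0 + 1)) (inv_mem (k _ m2 0))
    rwa [← zz_mul_tq, mul_inv_cancel_right] at this
  refine tq_mem_of_closure hz (S := S) (fun c hc => k c hc 0) ?_ e
  obtain ⟨j, l, hj, hl, -, -, jl⟩ := exists_two none
  have hv := nm_v44 jl 1 1
  have a := (ip_off hj hl 1 1).1
  have b := (ip_off hj hl 1 1).2
  have p1 : pol (cls (v44 j l 1 1)) (cls v1) = 0 := pol_cls_iff.2 (by simp [a])
  have p2 : pol (cls (v44 j l 1 1)) (cls v2) = 0 := pol_cls_iff.2 (by simp [b])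
  have n : ∀ w : Λ, nm w = 32 → ip (v44 j l 1 1) w = 0 → cls (v44 j l 1 1) ≠ cls w := fun w hw o e => by
    rcases (cls_eq_iff_short hv hw).1 e with t | t <;> rw [t] at o
    · rw [ip_self] at o; omega
    · rw [ip_neg_left, ip_self] at o; omega
  refine irr_UU (AddSubgroup.closure S) (fun h hh c hc => ?_)
    (AddSubgroup.subset_closure ⟨cls_mem_ShS nm_v1, pol_self _, (pol_comm _ _).trans p21⟩)
    (AddSubgroup.subset_closure m2) (AddSubgroup.subset_closure ⟨cls_mem_ShS hv, p1, p2⟩) p1 p2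
    (cls_ne_zero hv) (n _ nm_v1 a) (n _ nm_v2 b)
    (cls_sub v1 v2 ▸ n _ nm_v3 (by rw [ip_sub_right, a, b, sub_zero])) (tq_mem_SS.1 hS).1 (tq_mem_SS.1 hS).2
  induction hc using AddSubgroup.closure_induction with
  | mem x hx =>
    refine AddSubgroup.subset_closure ⟨csm_mem.2 hx.1, ?_, ?_⟩
    · rw [← hx.2.1, ← pol_csm h x, csm_cls, hh.1]
    · rw [← hx.2.2, ← pol_csm h x, csm_cls, hh.2]
  | zero => rw [csm_zero]; exact zero_mem _
  | add x y _ _ a b => rw [csm_add]; exact add_mem a b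
  | neg x _ a => rwa [ll_neg]

theorem QK_le_closure : QK ≤ closure (DD ∩ (QK : Set K)) := by
  rintro _ ⟨e, d, rfl⟩
  have k : ∀ c ∈ ShS, ∀ f, tq f c ∈ closure (DD ∩ (QK : Set K)) := fun c hc f =>
    subset_closure ⟨tq_mem_DD_iff.2 hc, f, c, rfl⟩
  have hz : zz ∈ closure (DD ∩ (QK : Set K)) := by
    have := mul_mem (k _ (cls_mem_ShS nm_v2) (0 + 1)) (inv_mem (k _ (cls_mem_ShS nm_v2) 0))
    rwa [← zz_mul_tq, mul_inv_cancel_right] at this
  exact tq_mem_of_closure hz (fun c hc => k c hc 0) (mem_closure_short d) e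

theorem exists_fix16 {h : Co0} (h2 : h * h = 1) {v : Λ} (hv : nm v = 32) (hf : h • v = v) :
    ∃ w : Λ, nm w = 32 ∧ ip v w = 16 ∧ h • w = w := by
  obtain ⟨k, c, hc, e⟩ := Std.exists_conj_mem_Sgn h2
  obtain ⟨w, a, b, d⟩ := fix16_sign hc (v := k • v) (by rw [nm_smul, hv])
    (by rw [← e, mul_smul, mul_smul, inv_smul_smul, hf])
  refine ⟨k⁻¹ • w, by rw [nm_smul, a], by rw [← ip_smul_left, b], ?_⟩
  rw [← e, mul_smul, mul_smul, smul_eq_iff_eq_inv_smul] at d
  exact d

theorem exists_fix_perp {h : Co0} (h2 : h * h = 1) (a b : LL) :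
    ∃ c ∈ ShS, csm h c = c ∧ pol c a = 0 ∧ pol c b = 0 := by
  obtain ⟨k, c, hc, e⟩ := Std.exists_conj_mem_Sgn h2
  obtain ⟨x, hx, p, q, r⟩ := perp_sign hc (csm k a) (csm k b)
  refine ⟨csm k⁻¹ x, csm_mem.2 hx, ?_, ?_, ?_⟩
  · rw [← e, csm_mul, csm_mul] at p
    nth_rewrite 2 [← p]
    rw [ActH.csm_inv_csm]
  · rw [← pol_csm k, ActH.csm_csm_inv, q]
  · rw [← pol_csm k, ActH.csm_csm_inv, r]

end Cfsg.Agent.Gr7
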