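import Mathlib
import Cfsg.Agent.Gr7.Faith
import Cfsg.Agent.Gr6.DMK

/-! The centraliser of `t0` and `s0`. -/

set_option autoImplicit false

namespace Cfsg.Agent.Gr7

open Subgroup Cfsg.Agent.Spor Cfsg.Agent.Spor.Leech Cfsg.Agent.Gr Cfsg.Agent.Gr6B

variable {s a l : K} {N : Subgroup K}

namespace St

/-- An involution without fixed points modulo a central subgroup inverts modulo this subgroup. -/
theorem fpf {G : Type*} [Group G] [Finite G] {N Z : Subgroup G} {z : G} (hz : z * z = 1)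
    (hn : ∀ n ∈ N, z * n * z⁻¹ ∈ N) (hZ : ∀ ζ ∈ Z, ∀ n ∈ N, n * ζ = ζ * n) (hz' : ∀ ζ ∈ Z, z * ζ = ζ * z)
    (hf : ∀ n ∈ N, n⁻¹ * (z * n * z⁻¹) ∈ Z → n ∈ Z) {n : G} (h : n ∈ N) : n * (z * n * z⁻¹) ∈ Z := by
  have : (Z.subgroupOf N).Normal := ⟨fun ζ hζ n => by
    rw [mem_subgroupOf, coe_mul, coe_mul, hZ ζ hζ n n.2, coe_inv, mul_inv_cancel_right]
    exact hζ⟩
  let φ : N →* N := ((MulAut.conj z).toMonoidHom.comp N.subtype).codRestrict N fun n => hn n n.2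
  let ψ := QuotientGroup.map (Z.subgroupOf N) (Z.subgroupOf N) φ fun ζ hζ => by
    change z * ζ * z⁻¹ ∈ Z
    rwa [hz' ζ hζ, mul_inv_cancel_right]
  have h1 : MonoidHom.FixedPointFree ψ := fun g hg => by
    obtain ⟨g, rfl⟩ := QuotientGroup.mk_surjective g
    exact (QuotientGroup.eq_one_iff _).2 (hf g g.2 (QuotientGroup.eq (a := g) (b := φ g).1 hg.symm))
  have h2 : Function.Involutive ψ := fun g => by
    obtain ⟨g, rfl⟩ := QuotientGroup.mk_surjective g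
    refine congrArg QuotientGroup.mk (Subtype.ext ?_)
    change z * (z * g * z⁻¹) * z⁻¹ = g
    calc _ = z * z * g * (z * z)⁻¹ := by group
      _ = _ := by rw [hz]; group
  have := QuotientGroup.eq (a := (⟨n, h⟩ : N)⁻¹) (b := φ ⟨n, h⟩).1
    (congrFun (h1.coe_eq_inv_of_involutive h2) (QuotientGroup.mk ⟨n, h⟩)).symm
  rwa [inv_inv] at this

theorem c_ts : t0 * s0 = s0 * t0 := O1_comm t0_mem s0_mem

theorem four_cm {x g : K} (hx : Four t0 s0 x) (hg : g ∈ Pc t0 s0) : g * x = x * g := by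
  have h1 : Commute g t0 := (mem_Pc.1 hg).1.symm
  have h2 : Commute g s0 := (mem_Pc.1 hg).2.symm
  rcases hx with rfl | rfl | rfl | rfl
  exacts [Commute.one_right g, h1, h2, h1.mul_right h2]

/-- The four-group generated by `t0` and `s0`. -/
def ZK : Subgroup K where
  carrier := {x | Four t0 s0 x}
  one_mem' := .inl rfl
  mul_mem' := by
    have h1 := DD_mul_self t0_mem
    have h2 := DD_mul_self s0_mem.1
    have h3 : s0 * (t0 * s0) = t0 := by rw [c_ts, DD_mul_cancel s0_mem.1]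
    rintro x y (rfl | rfl | rfl | rfl) (rfl | rfl | rfl | rfl) <;>
      simp [Four, h1, h2, h3, ← c_ts, DD_mul_cancel t0_mem, mul_assoc]
  inv_mem' := by
    rintro x (rfl | rfl | rfl | rfl)
    exacts [.inl inv_one, .inr (.inl (DD_inv t0_mem)), .inr (.inr (.inl (DD_inv s0_mem.1))),
      .inr (.inr (.inr (DD_inv (O1_mul_DD t0_mem s0_mem))))]

theorem tq_mem_Pc {e : ZMod 2} {d : LL} (h1 : pol d (cls v1) = 0) (h2 : pol d (cls v2) = 0) : tq e d ∈ Pc t0 s0 :=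
  have h := mem_SS.1 (tq_mem_SS (e := e).2 ⟨h1, h2⟩)
  mem_Pc.2 ⟨h.1.symm, h.2.1.symm⟩

theorem zz_mem_Pc : zz ∈ Pc t0 s0 := tq_mem_Pc (pol_zero_left _) (pol_zero_left _)

theorem tau_mem_Pc : tau ∈ Pc t0 s0 := mem_Pc.2 ⟨tau_t0.symm, tau_s0.symm⟩

theorem zz_mul_mem {x : K} (hx : Four t0 s0 x) : x = 1 ∨ zz * x ∈ DD := by
  rcases hx with rfl | rfl | rfl | rfl
  exacts [.inl rfl, .inr zt0_mem.1, .inr (by rw [s0_v2, zz_mul_tq]; exact tq_cls_mem _ nm_v2),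
    .inr (four_cm (.inr (.inr (.inr rfl))) zz_mem_Pc ▸ y3_mem)]

theorem four_of_inR {c : LL} (hc : TriV.InR c) (e : ZMod 2) : Four t0 s0 (tq e c) ∨ Four t0 s0 (zz * tq e c) := by
  obtain ⟨f, hf⟩ := InnB.exists_four hc
  have h : Four t0 s0 (tq f c) := by simpa [Four] using hf
  rw [zz_mul_tq]
  have : ∀ f e : ZMod 2, f = e ∨ f = e + 1 := by decide
  rcases this f e with rfl | rfl
  exacts [.inl h, .inr h]

theorem mem_RK_of_four {x : K} (hx : Four t0 s0 x) : x ∈ RK := by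
  have h1 : t0 ∈ RK := ⟨_, _, .inr (.inl rfl), t0_v1⟩
  have h2 : s0 ∈ RK := ⟨_, _, .inr (.inr (.inl rfl)), s0_v2⟩
  rcases hx with rfl | rfl | rfl | rfl
  exacts [one_mem _, h1, h2, mul_mem h1 h2]

theorem comm_zz (h : Four t0 s0 (l⁻¹ * (zz * l * zz⁻¹))) : zz * l = l * zz := by
  rcases zz_mul_mem h with e | e
  · rw [inv_mul_eq_one, eq_mul_inv_iff_mul_eq] at e
    exact e.symm
  · refine absurd (isConj_iff.2 ⟨(l * zz⁻¹)⁻¹, ?_⟩) (Gr6.not_isConj_zz e)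
    group

variable (h : Nm t0 s0 N) (hz : zz ∉ N)
include h hz

omit h in
theorem inR {e : ZMod 2} {c : LL} (H : ∀ x ∈ Pc t0 s0, tq e c * x * (tq e c)⁻¹ * x⁻¹ ∈ N) : TriV.InR c :=
  mem_span_of_pol fun d q1 q2 => by
    by_contra k
    have k1 := H _ (tq_mem_Pc (e := 0) q1 q2)
    rw [tq_conj, pol_comm, (zmod2_cases _).resolve_left k, ← zz_mul_tq, mul_inv_cancel_right] at k1
    exact hz k1

theorem four_of_QK (hq : l ∈ QK) (H : ∀ x ∈ Pc t0 s0, l * x * l⁻¹ * x⁻¹ ∈ N) : Four t0 s0 l := by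
  obtain ⟨e, c, rfl⟩ := hq
  refine (four_of_inR (inR hz H) e).resolve_right fun k => ?_
  have k1 := H _ tau_mem_Pc
  have k2 : tq e c * tau * (tq e c)⁻¹ * tau⁻¹ = tq 0 (om, 0) := by
    have k3 := four_cm k tau_mem_Pc
    calc _ = zz⁻¹ * (zz * tq e c * tau * (zz * tq e c)⁻¹) * zz * tau⁻¹ := by group
      _ = zz * (tau * zz * tau⁻¹) := by rw [← k3, inv_eq_of_mul_eq_one_right zz_mul_self]; group
      _ = _ := by rw [tau_conj_zz, zz_mul_tq]; rfl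
  rw [k2] at k1
  have k4 : tq 0 (om, 0) ∉ DD := fun m => Gr6.not_isConj_zz m (isConj_iff.2 ⟨tau * tau, by
    rw [← conj_conj, tau_conj_zz, tau_conj_one]⟩)
  rcases inR hz fun x hx => h.comm_mem hx k1 with k5 | k5 | k5 | k5
  exacts [om_ne_zero (congrArg Prod.fst k5), k4 (k5 ▸ tq_cls_mem _ nm_v1), k4 (k5 ▸ tq_cls_mem _ nm_v2),
    k4 (k5 ▸ cls_sub v1 v2 ▸ tq_cls_mem _ nm_v3)]

theorem four_of_comm (hc : zz * l = l * zz) (H : ∀ x ∈ Pc t0 s0, l * x * l⁻¹ * x⁻¹ ∈ N) : Four t0 s0 l :=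
  four_of_QK h hz (mem_QK_of_triv hc fun q hq => by
    obtain ⟨h1, h2⟩ := InnB.mem_Q0.1 hq
    have h3 := H q (mem_Pc.2 ⟨(mem_SS.1 h2).1.symm, (mem_SS.1 h2).2.1.symm⟩)
    exact mem_RK_of_four (four_of_QK h hz (mul_mem (conj_mem_QK hc h1) (inv_mem h1)) fun x hx => h.comm_mem hx h3)) H

theorem le_ZK {n : K} (hn : n ∈ N) : n ∈ ZK := by
  have f : ∀ g ∈ Pc t0 s0, ∀ n ∈ N, n⁻¹ * (g * zz * g⁻¹ * n * (g * zz * g⁻¹)⁻¹) ∈ ZK → n ∈ ZK := fun g hg n hn k => by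
    have h1 := h.norm _ (inv_mem hg) n hn
    have h2 : g⁻¹ * n * g⁻¹⁻¹ ∈ ZK := four_of_comm h hz (comm_zz (by
      change _ ∈ ZK
      convert k using 1
      rw [← mul_inv_cancel_right (n⁻¹ * _) g⁻¹, ← four_cm k (inv_mem hg)]
      group)) fun x hx => h.comm_mem hx h1
    convert h2 using 1
    rw [← mul_inv_cancel_right (g⁻¹ * n * g⁻¹⁻¹) g, ← four_cm h2 hg]
    group
  have k : ∀ g ∈ Pc t0 s0, n * (g * zz * g⁻¹ * n * (g * zz * g⁻¹)⁻¹) ∈ ZK := fun g hg =>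
    have m := mul_mem (mul_mem hg zz_mem_Pc) (inv_mem hg)
    fpf (by rw [conj_mul, zz_mul_self]; group) (h.norm _ m) (fun ζ hζ n hn => four_cm hζ (h.le hn))
      (fun ζ hζ => four_cm hζ m) (f g hg) hn
  refine f _ (mul_mem tau_mem_Pc tau_mem_Pc) n hn ?_
  have e : tau * tau * zz * (tau * tau)⁻¹ = zz * (tau * zz * tau⁻¹) := by
    rw [← conj_conj, tau_conj_zz, tau_conj_one, zz_mul_tq]; rfl
  have k1 := k 1 (one_mem _)
  have k2 := k _ tau_mem_Pc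
  rw [one_mul, inv_one, mul_one] at k1
  rw [e]
  generalize tau * zz * tau⁻¹ = y at *
  convert mul_mem (inv_mem k1) k2 using 1
  calc _ = n⁻¹ * zz * n⁻¹ * (n * (y * n * y⁻¹) * zz⁻¹) := by group
    _ = n⁻¹ * (zz * n * zz⁻¹)⁻¹ * (n * (y * n * y⁻¹)) := by rw [← four_cm k2 (inv_mem zz_mem_Pc)]; group
    _ = (zz * n * zz⁻¹ * n)⁻¹ * (n * (y * n * y⁻¹)) := by group
    _ = _ := by
      congr 2
      rw [← mul_inv_cancel_right (n * (zz * n * zz⁻¹)) n⁻¹, ← four_cm k1 (inv_mem (h.le hn))]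
      group

end St

open St

theorem sm_s (hs : s ∈ DD) (ha : a ∈ DD) (hb : s * a ∈ DD) (h : SM s a l N) : Four s a l := by
  obtain ⟨k, k1, k2⟩ := O1_std0 hs ((mem_O1_iff hs).2 ⟨ha, hb⟩)
  have h' := h.cj k
  rw [← four_cj k]
  rw [k1, k2] at h' ⊢
  have hz : zz ∉ _ := fun hz => by
    have k : ∀ d, pol d (cls v1) = 0 → pol d 0 = 0 → pol d (cls v2) = 0 := fun d h1 _ => by
      have := h'.cen zz hz zz_mul_self CL.es2.z_ne (tq 0 d)
        (mem_CC_of_QK ⟨0, d, rfl⟩ (by rw [t0_v1, tq_comm_iff, pol_comm, h1]))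
      rwa [s0_v2, tq_comm_iff, pol_comm] at this
    have k3 := cls_ne_of_ip nm_v1 nm_v2 (by rw [ip_v1_v2]; decide)
    rcases mem_span_of_pol k with e | e | e | e
    exacts [cls_ne_zero nm_v2 e, k3 e.symm, cls_ne_zero nm_v2 e, k3 (e.trans (add_zero _)).symm]
  refine four_of_comm h'.toNm hz (comm_zz ?_) h'.comm
  have h1 := h'.norm _ (inv_mem h'.mem) _ (inv_mem (h'.comm _ zz_mem_Pc))
  refine le_ZK h'.toNm hz ?_
  convert h1 using 1
  group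

theorem card_s (hs : s ∈ DD) (ha : a ∈ DD) (hb : s * a ∈ DD) :
    Nat.card (Pc s a) = 306129918735099415756800 := by
  obtain ⟨k, k1, k2⟩ := O1_std0 hs ((mem_O1_iff hs).2 ⟨ha, hb⟩)
  have h := GenH.card_orbit HH s0
  have e : ∀ y, (∃ g ∈ HH, g * s0 * g⁻¹ = y) ↔ y ∈ O1 t0 := fun y =>
    ⟨fun ⟨g, hg, e⟩ => e ▸ O1_conj t0_mem s0_mem (mem_centralizer_singleton_iff.1 hg),
      fun hy => (O1_trans t0_mem s0_mem hy).imp fun g hg => ⟨mem_centralizer_singleton_iff.2 hg.1, hg.2⟩⟩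
  rw [nb_congr e, ← card_eq_nb, card_O1, card_centralizer_t0] at h
  rw [← card_Pc_cj k, k1, k2]
  change _ = _ * Nat.card (Pc t0 s0) at h
  omega

end Cfsg.Agent.Gr7
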