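import Mathlib
import Cfsg.Agent.Gr7.Defs
import Cfsg.Agent.Gr6.Co
import Cfsg.Agent.Spor.CZ.Red

/-! The extraspecial subgroup attached to a conjugate of `zz`, and its intersection with the centraliser of `s`. -/

set_option autoImplicit false

namespace Cfsg.Agent.Gr7

open Subgroup Cfsg.Agent.Spor Cfsg.Agent.Spor.Leech Cfsg.Agent.Gr Cfsg.Agent.Gr6B

variable {s s' a x k g : K}

theorem cj_surj (g x : K) : ∃ y, x = g * y * g⁻¹ := ⟨g⁻¹ * x * g, by group⟩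

/-- The conjugate of `QK` with centre `⟨a⟩`. -/
def QA (a : K) : Subgroup K where
  carrier := {x | ∀ k, k * a * k⁻¹ = zz → k * x * k⁻¹ ∈ QK}
  one_mem' := fun k _ => by simp
  mul_mem' := fun hx hy k hk => by rw [conj_mul']; exact mul_mem (hx k hk) (hy k hk)
  inv_mem' := fun hx k hk => by rw [← conj_inv]; exact inv_mem (hx k hk)

theorem mem_QA (hk : k * a * k⁻¹ = zz) : x ∈ QA a ↔ k * x * k⁻¹ ∈ QK :=
  ⟨fun h => h k hk, fun h l hl => by
    have := conj_mem_QK (g := l * k⁻¹) (by conv_lhs => rw [← hl]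
                                           rw [← hk]; group) h
    simpa [mul_assoc] using this⟩

theorem QA_zz : QA zz = QK := Subgroup.ext fun x => by simpa using mem_QA (k := 1) (x := x) (by simp)

theorem cj_mem_QA (g : K) : g * x * g⁻¹ ∈ QA (g * a * g⁻¹) ↔ x ∈ QA a :=
  ⟨fun h k hk => by simpa [mul_assoc] using h (k * g⁻¹) (by simpa [mul_assoc] using hk),
    fun h k hk => by rw [conj_conj] at hk ⊢; exact h _ hk⟩

theorem QA_cj (g : K) : QA (g * a * g⁻¹) = (QA a).map (MulAut.conj g).toMonoidHom := by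
  ext x
  obtain ⟨y, rfl⟩ := cj_surj g x
  rw [cj_mem_QA, cj_mem_map]

theorem es_QA (h : IsConj zz a) : ES2 (QA a) a ∧ Nat.card (QA a) = 2 ^ 25 := by
  obtain ⟨g, rfl⟩ := isConj_iff.1 h
  rw [QA_cj, QA_zz, card_map_of_injective (MulAut.conj g).injective]
  exact ⟨CL.es2.conj g, card_QK⟩

theorem dd_QA (h : IsConj zz a) (hx : x ∈ QA a) : a * x ∈ DD ↔ x ∈ DD := by
  obtain ⟨g, hg⟩ := isConj_iff.1 h.symm
  obtain ⟨e, c, hc⟩ := (mem_QA hg).1 hx
  rw [← mem_DD_conj (g := g), ← mem_DD_conj (g := g) (s := x), conj_mul', hg, hc, zz_mul_tq, tq_mem_DD_iff,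
    tq_mem_DD_iff]

theorem UT.conj (h : UT s a) : IsConj zz a := (Gr6.K_two a h.1 h.2.1).resolve_right h.2.2.2.1

theorem UT.mul (hs : s ∈ DD) (h : UT s a) : UT s (s * a) := by
  obtain ⟨h1, -, h3, h4, h5⟩ := h
  refine ⟨by rw [mul_assoc, ← mul_assoc a, ← h3, mul_assoc, h1, mul_one, DD_mul_self hs], fun e => h4 ?_,
    by rw [mul_assoc s a s, ← h3], h5, by rwa [DD_mul_cancel hs]⟩
  rwa [← inv_eq_of_mul_eq_one_right e, DD_inv hs]

theorem UT.cj (h : UT s a) (k : K) : UT (k * s * k⁻¹) (k * a * k⁻¹) := by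
  obtain ⟨h1, h2, h3, h4, h5⟩ := h
  exact ⟨by rw [conj_mul, h1]; group, by simpa using h2, (comm_cj k).2 h3, mt mem_DD_conj.1 h4,
    by rwa [conj_mul, mem_DD_conj]⟩

/-- The centraliser of `s` in `QA a`. -/
def NA (s a : K) : Subgroup K := QA a ⊓ centralizer {s}

theorem mem_NA : x ∈ NA s a ↔ x ∈ QA a ∧ s * x = x * s := by
  rw [NA, mem_inf, mem_centralizer_singleton_iff, eq_comm]

theorem cj_mem_NA (g : K) : g * x * g⁻¹ ∈ NA (g * s * g⁻¹) (g * a * g⁻¹) ↔ x ∈ NA s a := by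
  rw [mem_NA, mem_NA, cj_mem_QA, comm_cj]

theorem UT.nm (h : UT s a) : Nm s a (NA s a) := by
  refine ⟨fun x hx => mem_Pc.2 ⟨(mem_NA.1 hx).2, (es_QA h.conj).1.z_comm x hx.1⟩, fun g hg n hn => ?_⟩
  have := (cj_mem_NA g).2 hn
  rwa [conj_eq_of_comm (mem_Pc.1 hg).1.symm, conj_eq_of_comm (mem_Pc.1 hg).2.symm] at this

theorem UT.pg (h : UT s a) : IsPGroup 2 (NA s a) := (es_QA h.conj).1.isPGroup.to_le inf_le_left

theorem UT.mem (h : UT s a) : a ∈ NA s a := mem_NA.2 ⟨(es_QA h.conj).1.z_mem, h.2.2.1⟩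

theorem UT.ns (hs : s ∈ DD) (h : UT s a) : s ∉ QA a := fun e =>
  h.2.2.2.2 (h.2.2.1 ▸ (dd_QA h.conj e).2 hs)

theorem UT.na (hs : s ∈ DD) (h : UT s a) : a ∉ NA s (s * a) := fun e =>
  (h.mul hs).ns hs (by simpa using (mem_NA.1 (mul_mem (h.mul hs).mem (inv_mem e))).1)

theorem UT.card_ge (hs : s ∈ DD) (h : UT s a) : 2 ^ 17 ≤ Nat.card (NA s a) := by
  obtain ⟨k, h1, h2, h3, h4⟩ := h.std hs
  refine (Sub.card_comm h2 h3 h4).trans ((IB.card_le_conj (L' := QA a) (g := k⁻¹) fun x hx => ?_).trans_eq ?_)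
  · exact (mem_QA h1).2 (by simpa [mul_assoc] using hx)
  · simp [NA, mul_assoc]

theorem UT.card_mul (h : UT s a) :
    Nat.card (NA s a) * Nat.card ↥(QA a ⊓ centralizer (NA s a : Set K)) = 2 ^ 26 := by
  rw [(es_QA h.conj).1.card_mul_card_centralizer (A := NA s a) inf_le_left h.mem, (es_QA h.conj).2]; rfl

theorem UT.exists_four (hs : s ∈ DD) (h : UT s a) : ∃ q ∈ NA s a, q * q ≠ 1 := by
  by_contra! H
  have h1 := card_le_of_le (show NA s a ≤ QA a ⊓ centralizer (NA s a : Set K) from fun x hx =>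
    ⟨hx.1, fun y hy => Sub.comm_of_sq (H y hy) (H x hx) (H _ (mul_mem hy hx))⟩)
  have h2 := h.card_ge hs
  have h3 := Nat.mul_le_mul h2 (h2.trans h1)
  rw [h.card_mul] at h3
  omega

/-- The elements of `NA s a ⊓ NA s (s * a)` are central in `NA s a`. -/
theorem UT.cen (hs : s ∈ DD) (h : UT s a) {m : K} (hm : m ∈ NA s a ⊓ NA s (s * a)) (hx : x ∈ NA s a) :
    m * x = x * m := by
  refine ((es_QA h.conj).1.comm m hm.1.1 x hx.1).resolve_right fun e => h.na hs ?_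
  have := (h.mul hs).nm.comm_mem (Pc_mul ▸ h.nm.le hx) hm.2
  rwa [e, mul_assoc a, mul_inv_cancel_right, mul_inv_cancel_right] at this

/-! ### The fibre of `DD` over an involution of `Co1` -/

theorem tau_eq (h : Co0) : (CZ.tau h : ℝ) = 8 * (mat h).trace := by
  simp only [CZ.tau, Matrix.trace, Matrix.diag_apply, mat, rv, Int.cast_sum, Finset.mul_sum]
  exact Finset.sum_congr rfl fun i _ => by ring

theorem exists_tb (hs : s ∈ DD) (hz : zz * s = s * zz) (hQ : s ∉ QK) :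
    ∃ g σ : centralizer ({zz} : Set K), (σ : K) = g * s * (g : K)⁻¹ ∧ piK σ = CZ.tb := by
  obtain ⟨γ, k, rfl, k1, k2, -, k4, -⟩ := Sub.exists_k hs hz hQ
  have h1 : CZ.tau k = -64 := by
    have := tau_eq k
    rw [k4, show (8 : ℝ) * -8 = -64 by norm_num] at this
    exact_mod_cast this
  obtain ⟨l, hl⟩ := (((Gr6.Co.inv_cls k2).resolve_left fun e => by simp [h1] at e).resolve_right
    fun e => by simp [h1] at e).2
  obtain ⟨g, hg⟩ := mdata.exists_lift l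
  refine ⟨g, g * ⟨_, act_mem_centralizer γ⟩ * g⁻¹, rfl, ?_⟩
  rw [map_mul, map_mul, map_inv, piK_act, ← k1, ← hg, ← map_inv, ← map_mul, ← map_mul, hl]
  rfl

theorem fibre {σ σ' : centralizer ({zz} : Set K)} (hs : σ.1 ∈ DD) (hs' : σ'.1 ∈ DD) (hQ : σ.1 ∉ QK)
    (e : piK σ = piK σ') : ∃ q ∈ QK, q * σ' * q⁻¹ = σ := by
  obtain ⟨γ, o, ho, h⟩ := Sub.exists_hy hs (mem_cent.1 σ.2).symm hQ
  let g : centralizer ({zz} : Set K) := ⟨_, act_mem_centralizer γ⟩
  have key : ∀ x : centralizer ({zz} : Set K), x.1 ∈ DD → piK x = piK σ → ∃ k : Co0,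
      MT.pr k = piK (g * σ * g⁻¹) ∧ mat k = (4 : ℝ) • (axis (act γ * x * (act γ)⁻¹)).1.1 - 1 ∧
        (mat k).trace = -8 ∧ (axis (act γ * x * (act γ)⁻¹)).2.2 = 0 := fun x hx e => by
    obtain ⟨δ, k, k0, k1, -, k3, k4, k5, -⟩ := Sub.exists_k (conj_mem_DD (act γ) hx)
      (mem_cent.1 (g * x * g⁻¹).2).symm fun hq => hQ ((mdata.ker σ).1 (by
        simpa [e] using (mdata.ker (g * x * g⁻¹)).2 hq))
    refine ⟨k, ?_, k3, k4, k5⟩
    rw [k1, ← piK_act, map_mul, map_mul, ← e, ← map_mul, ← map_mul]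
    exact congrArg piK (Subtype.ext k0)
  obtain ⟨k, k1, k2, k3, -⟩ := key σ hs rfl
  obtain ⟨k', l1, l2, l3, l4⟩ := key σ' hs' e.symm
  obtain rfl : k = k' := (MT.pr_eq_iff.1 (k1.trans l1.symm)).resolve_right fun e => by
    rw [e, mat_mul, mat_negOne, neg_mul, one_mul, Matrix.trace_neg, l3] at k3
    norm_num at k3
  have hd := conj_mem_DD (act γ) hs'
  obtain ⟨l, hl⟩ := CB.exists_tq h (b' := axis (act γ * σ' * (act γ)⁻¹)) ⟨by
    rw [← h.hA]; exact smul_right_injective _ four_ne_zero (sub_left_injective (l2.symm.trans k2)), l4, by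
    have hb := (ax_axis hd).aa
    rw [mM_apply] at hb
    nth_rw 3 [← hb]
    rw [smul_smul]
    norm_num⟩ ho
  have h1 := axis_inj (conj_mem_DD _ hs) (conj_mem_DD (tq 0 l) hd) (hl.trans (axis_conj _ hd).symm)
  refine ⟨(act γ)⁻¹ * tq 0 l * (act γ)⁻¹⁻¹, conj_mem_QK (mem_cent.1 g⁻¹.2).symm ⟨0, l, rfl⟩, ?_⟩
  calc _ = (act γ)⁻¹ * (tq 0 l * (act γ * σ' * (act γ)⁻¹) * (tq 0 l)⁻¹) * act γ := by group
    _ = _ := by rw [← h1]; group

end Cfsg.Agent.Gr7
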