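import Mathlib
import Cfsg.Agent.Gr7.UtB
import Cfsg.Agent.Gr.OutLeech
import Cfsg.Agent.GT.PiGroups

/-! The structure `2^(10+16).O8+(2)` of the centraliser of a pair of type `u`. -/

set_option autoImplicit false

namespace Cfsg.Agent.Gr7

open Subgroup Cfsg.Agent.Spor Cfsg.Agent.Spor.Leech Cfsg.Agent.Gr Cfsg.Agent.Gr6B

/-- The two normal subgroups of order `2 ^ 17` in the centraliser of a pair of type `u`. -/
structure US (s a : K) (N1 N2 : Subgroup K) : Prop where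
  n1 : Nm s a N1
  n2 : Nm s a N2
  es1 : ∀ x ∈ N1, ∀ y ∈ N1, Eqv a (x * y) (y * x)
  es2 : ∀ x ∈ N2, ∀ y ∈ N2, Eqv (s * a) (x * y) (y * x)
  sq1 : ∀ x ∈ N1, x * x = 1 ∨ x * x = a
  sq2 : ∀ x ∈ N2, x * x = 1 ∨ x * x = s * a
  m1 : a ∈ N1
  m2 : s * a ∈ N2
  s1 : s ∉ N1
  s2 : s ∉ N2
  cen1 : ∀ m ∈ N1 ⊓ N2, ∀ x ∈ N1, m * x = x * m
  cen2 : ∀ m ∈ N1 ⊓ N2, ∀ x ∈ N2, m * x = x * m
  typ : ∀ m ∈ N1 ⊓ N2, m ≠ 1 → ZT s m
  fix : ∀ m ∈ N1 ⊓ N2, (∀ g ∈ Pc s a, m * g = g * m) → m = 1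
  c1 : ∀ q ∈ N1, ∀ n ∈ N2, n * n ≠ 1 → q * n = n * q → ∃ m ∈ N1 ⊓ N2, Eqv a q m
  c2 : ∀ n ∈ N2, ∀ q ∈ N1, q * q ≠ 1 → q * n = n * q → ∃ m ∈ N1 ⊓ N2, Eqv (s * a) n m
  o1 : ∃ q ∈ N1, q * q ≠ 1
  o2 : ∃ n ∈ N2, n * n ≠ 1
  core : ∀ N, Nm s a N → IsPGroup 2 N → ∀ x ∈ N, ∃ n ∈ N2, ∃ q ∈ N1, x = n * q
  triv : ∀ l ∈ Pc s a, (∀ x ∈ N2, Eqv (s * a) (l * x * l⁻¹) x) → ∃ n ∈ N2, ∃ q ∈ N1, l = n * q

namespace UA

/-- The image in `Co1`. -/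
noncomputable def img (N : Subgroup K) : Subgroup Cfsg.Spor.Co1 := (N.subgroupOf (centralizer {zz})).map piK

theorem card_img {N : Subgroup K} (h : N ≤ centralizer {zz}) :
    Nat.card (img N) * Nat.card ↥(N ⊓ QK) = Nat.card N := by
  have := GT.card_map_mul_card_inf_ker (N.subgroupOf (centralizer {zz})) piK
  rwa [BM.ker_eq mdata, subgroupOf, subgroupOf, ← comap_inf, ← subgroupOf, ← subgroupOf,
    Nat.card_congr (subgroupOfEquivOfLe h).toEquiv,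
    Nat.card_congr (subgroupOfEquivOfLe (inf_le_left.trans h)).toEquiv] at this

variable {σ : centralizer ({zz} : Set K)} (hs : σ.1 ∈ DD) (hu : UT σ zz) (hπ : piK σ = CZ.tb)
  {N : Subgroup K} {x m q n l : K}

theorem Pc_le {s : K} : Pc s zz ≤ centralizer {zz} := inf_le_right

theorem mem_N1 {s : K} : x ∈ NA s zz ↔ x ∈ QK ∧ s * x = x * s := by rw [mem_NA, QA_zz]

include hπ in
theorem comm_tb {y : centralizer ({zz} : Set K)} (h : y.1 ∈ Pc σ zz) : CZ.tb * piK y = piK y * CZ.tb := by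
  rw [← hπ, ← map_mul, ← map_mul]
  exact congrArg piK (Subtype.ext (mem_Pc.1 h).1)

theorem inf_eq {s : K} : NA s (s * zz) ⊓ QK = NA s zz ⊓ NA s (s * zz) := by
  ext x
  rw [mem_inf, mem_inf, mem_N1]
  exact ⟨fun h => ⟨⟨h.2, (mem_NA.1 h.1).2⟩, h.1⟩, fun h => ⟨h.2, h.1.1⟩⟩

include hs hu

theorem mem_of_eqv (hx : x ∈ QK) (h : Eqv zz (σ * x * (σ : K)⁻¹) x) : x ∈ NA σ zz := by
  refine mem_N1.2 ⟨hx, mul_inv_eq_iff_eq_mul.1 (h.resolve_right fun e => hu.2.2.2.2 ?_)⟩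
  have := conj_mem_DD x⁻¹ hs
  rwa [inv_inv, mul_assoc, mul_inv_eq_iff_eq_mul.1 e, CL.es2.z_comm x hx, mul_assoc, inv_mul_cancel_left,
    ← hu.2.2.1] at this

theorem cen2 (hm : m ∈ NA σ zz ⊓ NA σ (σ * zz)) (hx : x ∈ NA σ (σ * zz)) : m * x = x * m :=
  (hu.mul hs).cen hs (by rw [DD_mul_cancel hs]; exact ⟨hm.2, hm.1⟩) hx

include hπ

theorem exists_lift {y : Cfsg.Spor.Co1} (h : CZ.tb * y = y * CZ.tb) :
    ∃ x : centralizer ({zz} : Set K), x.1 ∈ Pc σ zz ∧ piK x = y := by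
  obtain ⟨x, rfl⟩ := mdata.surj y
  obtain ⟨q, hq, e⟩ := fibre (σ' := x * σ * x⁻¹) hs (conj_mem_DD _ hs) (QA_zz ▸ hu.ns hs)
    (by rw [map_mul, map_mul, hπ, ← h, map_inv, mul_inv_cancel_right])
  refine ⟨⟨q, BM.Q_le mdata hq⟩ * x, mem_Pc.2 ⟨?_, (mem_cent.1 (Subtype.prop _)).symm⟩,
    by rw [map_mul, (mdata.ker _).2 hq, one_mul]⟩
  exact (mul_inv_eq_iff_eq_mul.1 ((conj_conj q x σ).symm.trans e)).symm

theorem img_P : img (Pc σ zz) = centralizer {CZ.tb} := by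
  ext y
  rw [mem_centralizer_singleton_iff]
  exact ⟨by rintro ⟨x, hx, rfl⟩; exact (comm_tb hπ hx).symm, fun h => exists_lift hs hu hπ h.symm⟩

theorem img_le (h : Nm σ zz N) (h2 : IsPGroup 2 N) : img N ≤ CZ.Q0 := by
  rw [CZ.model.2.2.1, ← img_P hs hu hπ]
  refine GT.le_pCoreOf (map_mono (subgroupOf_mono _ h.le)) ?_ (h2.comap_subtype.map _)
  rintro _ ⟨g, hg, rfl⟩
  refine mem_normalizer_fintype ?_
  rintro _ ⟨n, hn, rfl⟩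
  exact ⟨g * n * g⁻¹, h.norm _ hg _ hn, by rw [map_mul, map_mul, map_inv]⟩

theorem cards : Nat.card (NA σ zz) = 2 ^ 17 ∧ Nat.card ↥(NA σ zz ⊓ NA σ (σ * zz)) = 2 ^ 8 ∧
    Nat.card ↥(QK ⊓ centralizer (NA σ zz : Set K)) = 2 ^ 9 ∧ img (NA σ (σ * zz)) = CZ.Q0 ∧
    ∀ u ∈ QK ⊓ centralizer (NA σ zz : Set K), ∃ m ∈ NA σ zz ⊓ NA σ (σ * zz), Eqv zz u m := by
  have n2 : Nm σ zz (NA σ (σ * zz)) := by simpa only [DD_mul_cancel hs] using (hu.mul hs).nm.mul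
  have h1 := hu.card_ge hs
  have h2 := (hu.mul hs).card_ge hs
  have h3 := hu.card_mul
  have h4 := card_img (n2.le.trans Pc_le)
  have h5 := img_le hs hu hπ n2 (hu.mul hs).pg
  have h6 := card_le_of_le h5
  rw [QA_zz] at h3
  rw [inf_eq] at h4
  rw [CZ.model.2.2.2.1] at h6
  have le : NA σ zz ⊓ NA σ (σ * zz) ≤ QK ⊓ centralizer (NA σ zz : Set K) := fun m hm =>
    ⟨(mem_N1.1 hm.1).1, fun x hx => (hu.cen hs hm hx).symm⟩
  have hz : zz ∈ QK ⊓ centralizer (NA σ zz : Set K) :=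
    ⟨Sub.zz_mem, fun x hx => (CL.es2.z_comm x (mem_N1.1 hx).1).symm⟩
  have h7 := ((NA σ zz ⊓ NA σ (σ * zz)).subgroupOf (QK ⊓ centralizer (NA σ zz : Set K))).card_mul_index
  have h8 : ((NA σ zz ⊓ NA σ (σ * zz)).subgroupOf (QK ⊓ centralizer (NA σ zz : Set K))).index ≠ 1 := fun e =>
    hu.na hs (mem_subgroupOf.1 ((index_eq_one.1 e).ge (mem_top ⟨zz, hz⟩))).2
  have h9 := ((NA σ zz ⊓ NA σ (σ * zz)).subgroupOf (QK ⊓ centralizer (NA σ zz : Set K))).index_ne_zero_of_finite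
  rw [Nat.card_congr (subgroupOfEquivOfLe le).toEquiv] at h7
  have h10 := fun e b => mul_mem_iff_of_index_two
    (H := (NA σ zz ⊓ NA σ (σ * zz)).subgroupOf (QK ⊓ centralizer (NA σ zz : Set K))) e (a := ⟨zz, hz⟩) (b := b)
  have h11 := fun e => eq_of_le_of_card_ge h5 (CZ.model.2.2.2.1.trans_le e)
  generalize Subgroup.index (G := ↥(QK ⊓ centralizer (NA σ zz : Set K))) _ = j at h7 h8 h9 h10
  generalize Nat.card (img _) = e at h4 h6 h11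
  generalize Nat.card ↥(NA σ zz ⊓ _) = i at h4 h7 ⊢
  generalize Nat.card ↥(QK ⊓ _) = u at h3 h7 ⊢
  generalize Nat.card (NA σ zz) = a at h1 h3 ⊢
  have k1 : 2 ^ 8 ≤ i := by nlinarith
  have k2 : u ≤ 2 ^ 9 := by nlinarith
  have k3 : j = 2 := by nlinarith [show 2 ≤ j by omega]
  subst k3
  obtain rfl : i = 2 ^ 8 := by omega
  obtain rfl : u = 2 ^ 9 := by omega
  refine ⟨by omega, rfl, rfl, h11 (by omega), fun u hu' => ?_⟩
  by_cases h : u ∈ NA σ zz ⊓ NA σ (σ * zz)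
  · exact ⟨u, h, .inl rfl⟩
  · exact ⟨zz * u, (h10 rfl ⟨u, hu'⟩).2 (iff_of_false (fun e => hu.na hs e.2) h),
      .inr (by rw [← mul_assoc, zz_mul_self, one_mul])⟩

theorem card_P : Nat.card (Pc σ zz) = 11689182992793600 := by
  have h := card_img (Pc_le (s := σ))
  rw [img_P hs hu hπ, CZ.model.2.2.2.2, show Pc σ zz ⊓ QK = NA σ zz from Subgroup.ext fun x => by
    rw [mem_N1, mem_inf, mem_Pc]
    exact ⟨fun h => ⟨h.2, h.1.1⟩, fun h => ⟨⟨h.2, CL.es2.z_comm x h.1⟩, h.1⟩⟩, (cards hs hu hπ).1] at h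
  exact h.symm.trans (by norm_num)

theorem split {y : centralizer ({zz} : Set K)} (hy : y.1 ∈ Pc σ zz) (h : piK y ∈ CZ.Q0) :
    ∃ n ∈ NA σ (σ * zz), ∃ q ∈ NA σ zz, y = n * q := by
  obtain ⟨n, hn, e⟩ := (cards hs hu hπ).2.2.2.1.ge h
  refine ⟨n, hn, (n : K)⁻¹ * y, mem_N1.2 ⟨(mdata.ker (n⁻¹ * y)).1 ?_, ?_⟩, (mul_inv_cancel_left _ _).symm⟩
  · rw [map_mul, map_inv, e, inv_mul_cancel]
  · exact ((show Commute (σ : K) n from (mem_NA.1 hn).2).inv_right.mul_right (mem_Pc.1 hy).1).eq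

theorem core (h : Nm σ zz N) (h2 : IsPGroup 2 N) (hx : x ∈ N) :
    ∃ n ∈ NA σ (σ * zz), ∃ q ∈ NA σ zz, x = n * q :=
  split hs hu hπ (y := ⟨x, Pc_le (h.le hx)⟩) (h.le hx) (img_le hs hu hπ h h2 ⟨_, hx, rfl⟩)

theorem triv (hl : l ∈ Pc σ zz) (h : ∀ x ∈ NA σ (σ * zz), Eqv (σ * zz) (l * x * l⁻¹) x) :
    ∃ n ∈ NA σ (σ * zz), ∃ q ∈ NA σ zz, l = n * q := by
  refine split hs hu hπ (y := ⟨l, Pc_le hl⟩) hl (CZ.model.2.1.triv _ (comm_tb hπ hl) fun y hy => ?_)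
  obtain ⟨x, hx, rfl⟩ := (cards hs hu hπ).2.2.2.1.ge hy
  rw [← map_inv, ← map_mul, ← map_mul]
  refine (h x hx).imp (fun e => congrArg piK (Subtype.ext e)) fun e => ?_
  rw [← mul_one CZ.tb, ← hπ, ← (mdata.ker ⟨zz, BM.Q_le mdata Sub.zz_mem⟩).2 Sub.zz_mem, ← map_mul, ← map_mul]
  exact congrArg piK (Subtype.ext e)

theorem fix (hm : m ∈ NA σ zz ⊓ NA σ (σ * zz)) (h : ∀ g ∈ Pc σ zz, m * g = g * m) : m = 1 := by
  obtain ⟨e, c, rfl⟩ := (mem_N1.1 hm.1).1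
  obtain ⟨w, rfl⟩ := cls_surjective c
  have key : ∀ g : Co0, g * CZ.tO = CZ.tO * g → MT.Cg (g • w) w := fun g hg => by
    obtain ⟨x, hx, k⟩ := exists_lift hs hu hπ (y := MT.pr g)
      ((map_mul MT.pr _ _).symm.trans ((congrArg _ hg.symm).trans (map_mul MT.pr _ _)))
    obtain ⟨f, hf⟩ := IB.ac_of_pi k e (cls w)
    rw [← h x hx, mul_inv_cancel_right, csm_cls] at hf
    exact cls_eq_iff.1 (tq_inj.1 hf).2.symm
  rcases OG.fix_mon (w := w) (by rintro _ ⟨c, hc, rfl⟩; exact key _ (sign_comm _ _)) with k | k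
  · rw [cls_eq_iff.2 k, cls_zero] at hm ⊢
    rcases (by decide : ∀ e : ZMod 2, e = 0 ∨ e = 1) e with rfl | rfl
    exacts [tq_zero, absurd hm.2 (hu.na hs)]
  · have h1 := card_dvd_of_le (show centralizer {CZ.tO} ≤ Mon from fun g hg =>
      MT.mem_Mon_of_cg (((k.smul g).symm.trans (key g (mem_centralizer_singleton_iff.1 hg))).trans k))
    rw [CZ.card_cent_tb, CZ.model.2.2.2.2, card_Mon] at h1
    norm_num at h1

theorem exists_cls (hm : m ∈ NA σ zz ⊓ NA σ (σ * zz)) : ∃ e c, m = tq e (csm CZ.tO c + c) := by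
  let A : Subgroup K :=
    { carrier := {u | ∃ e c, u = tq e (csm CZ.tO c + c)}
      one_mem' := ⟨0, 0, by rw [add_zero, csm_zero, tq_zero]⟩
      mul_mem' := by
        rintro _ _ ⟨e, c, rfl⟩ ⟨f, d, rfl⟩
        exact ⟨_, c + d, (tq_mul _ _ _ _).trans (by rw [csm_add, add_add_add_comm])⟩
      inv_mem' := by rintro _ ⟨e, c, rfl⟩; exact ⟨_, c, ActH.tq_inv _ _⟩ }
  refine CL.es2.mem_of_comm_centralizer (A := A) (by rintro _ ⟨e, c, rfl⟩; exact ⟨_, _, rfl⟩)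
    ⟨1, 0, by rw [add_zero, csm_zero]; rfl⟩ (mem_N1.1 hm.1).1 fun x hx k => ?_
  refine (hu.cen hs hm (mem_of_eqv hs hu hx ?_)).symm
  obtain ⟨e, d, rfl⟩ := hx
  obtain ⟨f, hf⟩ := IB.ac_of_pi (h := CZ.tO) hπ e d
  rw [hf, CL.eqv_tq, ← add_left_inj d, Gr.ll_add_self]
  refine eq_zero_of_pol fun c => ?_
  have := tq_comm_iff.1 (k _ ⟨0, c, rfl⟩)
  rwa [pol_add_right, ← pol_csm CZ.tO, ← csm_mul, CZ.tO_sq, csm_one, ← pol_add_left] at this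

theorem dd (hm : m ∈ NA σ zz ⊓ NA σ (σ * zz)) : σ * m ∈ DD ∨ σ * zz * m ∈ DD := by
  obtain ⟨e, c, rfl⟩ := exists_cls hs hu hπ hm
  obtain ⟨f, hf⟩ := IB.ac_of_pi (h := CZ.tO) hπ 0 c
  have h1 := conj_mem_DD (tq 0 c) hs
  have h2 : tq 0 c * σ * (tq 0 c)⁻¹ = σ * (σ * tq 0 c * (σ : K)⁻¹ * (tq 0 c)⁻¹) := by
    rw [DD_inv hs, mul_assoc (σ : K), mul_assoc (σ : K), DD_mul_cancel hs]
  rw [h2, hf, ActH.tq_inv, tq_mul] at h1
  rcases CL.eqv_tq.2 (rfl : csm CZ.tO c + c = _) with k | k <;> rw [k] at h1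
  exacts [.inl h1, .inr (by rwa [mul_assoc])]

theorem c1 (hq : q ∈ NA σ zz) (hn : n ∈ NA σ (σ * zz)) (h2 : n * n ≠ 1) (hc : q * n = n * q) :
    ∃ m ∈ NA σ zz ⊓ NA σ (σ * zz), Eqv zz q m := by
  obtain ⟨k1, k2, k3, -, k4⟩ := cards hs hu hπ
  have n2 : Nm σ zz (NA σ (σ * zz)) := by simpa only [DD_mul_cancel hs] using (hu.mul hs).nm.mul
  have cm : ∀ x ∈ NA σ zz, n * x * n⁻¹ * x⁻¹ ∈ NA σ zz ⊓ NA σ (σ * zz) := fun x hx =>
    mem_inf.2 ⟨mul_mem (hu.nm.norm n (n2.le hn) x hx) (inv_mem hx), n2.comm_mem (hu.nm.le hx) hn⟩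
  let φ : NA σ zz →* K := MonoidHom.mk' (fun x => n * x * n⁻¹ * (x : K)⁻¹) fun x y => by
    rw [mul_assoc _ (x : K)⁻¹, ← hu.cen hs (cm y y.2) (inv_mem x.2), coe_mul]; group
  obtain ⟨f, hf⟩ := MT.pr_surjective (piK ⟨n, Pc_le (n2.le hn)⟩)
  have a1 : IB.Ac n f := IB.ac_of_pi hf.symm
  have a2 : ∀ c, csm f (csm f c) = csm CZ.tO c := fun c => by
    obtain ⟨e1, h3⟩ := a1 0 c
    obtain ⟨e2, h4⟩ := a1 e1 (csm f c)
    obtain ⟨e3, h5⟩ := IB.ac_of_pi (h := CZ.tO) hπ 0 c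
    rw [← h3, conj_conj, ((es_QA (hu.mul hs).conj).1.sq n hn.1).resolve_left h2, ← conj_conj,
      CL.es2.z_comm _ ⟨0, c, rfl⟩, mul_inv_cancel_right, h5] at h4
    exact (tq_inj.1 h4).2.symm
  have h3 : NA σ zz ⊓ NA σ (σ * zz) ≤ φ.range := fun m hm => by
    obtain ⟨e, c, rfl⟩ := exists_cls hs hu hπ hm
    obtain ⟨e1, h3⟩ := a1 e (csm CZ.tO c + c)
    rw [← cen2 hs hu hm hn, mul_inv_cancel_right, csm_add] at h3
    have hy : tq 0 (csm f c + c) ∈ NA σ zz := mem_of_eqv hs hu ⟨_, _, rfl⟩ (by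
      obtain ⟨e2, h4⟩ := IB.ac_of_pi (h := CZ.tO) hπ 0 (csm f c + c)
      rw [h4, CL.eqv_tq, csm_add, ← a2 (csm f c), a2 c, ← add_left_inj (csm f c), add_right_comm, ← (tq_inj.1 h3).2,
        add_right_comm, Gr.ll_add_self, zero_add, add_right_comm, Gr.ll_add_self, zero_add])
    have h4 := (cm _ hy).2
    obtain ⟨e2, h5⟩ := a1 0 (csm f c + c)
    have h6 : Eqv zz (n * tq 0 (csm f c + c) * n⁻¹ * (tq 0 (csm f c + c))⁻¹) (tq e (csm CZ.tO c + c)) := by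
      rw [h5, ActH.tq_inv, tq_mul, CL.eqv_tq, csm_add, a2, add_assoc, ← add_assoc (csm f c), Gr.ll_add_self, zero_add]
    exact ⟨⟨_, hy⟩, h6.resolve_right fun k => hu.na hs ((mul_mem_cancel_right (mem_inf.1 hm).2).1 (k ▸ h4))⟩
  have h4 : (QK ⊓ centralizer (NA σ zz : Set K)) ≤ φ.ker.map (NA σ zz).subtype := fun u h => by
    obtain ⟨m, hm, e⟩ := k4 u h
    have h5 : m * n = n * m := cen2 hs hu hm hn
    have h6 : zz * n = n * zz := (mem_Pc.1 (n2.le hn)).2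
    refine ⟨⟨u, ?_⟩, mul_inv_eq_one.2 (mul_inv_eq_iff_eq_mul.2 ?_), rfl⟩ <;> rcases e with rfl | rfl
    exacts [hm.1, mul_mem hu.mem hm.1, h5.symm, (Commute.mul_left h6 h5).symm]
  have h5 := φ.ker.card_mul_index
  have h6 := card_le_of_le h3
  rw [index_ker, k1] at h5
  refine k4 q ((eq_of_le_of_card_ge h4 ?_).ge ⟨⟨q, hq⟩, mul_inv_eq_one.2 (mul_inv_eq_iff_eq_mul.2 hc.symm), rfl⟩)
  rw [card_map_of_injective (subtype_injective _), k3]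
  rw [k2] at h6
  nlinarith

end UA

/-- The statements that are proved for `a = zz`. -/
structure UH (s a : K) : Prop where
  card : Nat.card (Pc s a) = 11689182992793600
  dd : ∀ m ∈ NA s a ⊓ NA s (s * a), s * m ∈ DD ∨ s * a * m ∈ DD
  fix : ∀ m ∈ NA s a ⊓ NA s (s * a), (∀ g ∈ Pc s a, m * g = g * m) → m = 1
  c1 : ∀ q ∈ NA s a, ∀ n ∈ NA s (s * a), n * n ≠ 1 → q * n = n * q → ∃ m ∈ NA s a ⊓ NA s (s * a), Eqv a q m
  core : ∀ N, Nm s a N → IsPGroup 2 N → ∀ x ∈ N, ∃ n ∈ NA s (s * a), ∃ q ∈ NA s a, x = n * q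
  triv : ∀ l ∈ Pc s a, (∀ x ∈ NA s (s * a), Eqv (s * a) (l * x * l⁻¹) x) →
    ∃ n ∈ NA s (s * a), ∃ q ∈ NA s a, l = n * q

variable {s a : K}

theorem eqv_cj (k : K) {x y : K} : Eqv (k * a * k⁻¹) (k * x * k⁻¹) (k * y * k⁻¹) ↔ Eqv a x y := by
  simp only [Eqv, conj_mul, mul_left_inj, mul_right_inj]

theorem UH.of_cj (k : K) (h : UH (k * s * k⁻¹) (k * a * k⁻¹)) : UH s a := by
  obtain ⟨h1, h2, h3, h4, h5, h6⟩ := h
  rw [conj_mul] at h2 h3 h4 h5 h6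
  have m : ∀ {x}, k * x * k⁻¹ ∈ NA (k * s * k⁻¹) (k * a * k⁻¹) ⊓ NA (k * s * k⁻¹) (k * (s * a) * k⁻¹) ↔
      x ∈ NA s a ⊓ NA s (s * a) := by simp only [mem_inf, cj_mem_NA, implies_true]
  have e : ∀ {x}, (∃ n ∈ NA (k * s * k⁻¹) (k * (s * a) * k⁻¹), ∃ q ∈ NA (k * s * k⁻¹) (k * a * k⁻¹),
      k * x * k⁻¹ = n * q) → ∃ n ∈ NA s (s * a), ∃ q ∈ NA s a, x = n * q := fun ⟨n, hn, q, hq, e⟩ => by
    obtain ⟨n, rfl⟩ := cj_surj k n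
    obtain ⟨q, rfl⟩ := cj_surj k q
    exact ⟨n, (cj_mem_NA k).1 hn, q, (cj_mem_NA k).1 hq, by simpa only [conj_mul, mul_left_inj, mul_right_inj] using e⟩
  refine ⟨card_Pc_cj k ▸ h1, fun x hx => ?_, fun x hx c => conj_eq_one_iff.1 (h3 _ (m.2 hx) fun g hg => ?_),
    fun q hq n hn c d => ?_, fun N hN h2 x hx => e (h5 _ (hN.cj k) (h2.map _) _ ((cj_mem_map k).2 hx)),
    fun l hl c => e (h6 _ ((cj_mem_Pc k).2 hl) fun x hx => ?_)⟩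
  · simpa only [conj_mul, mem_DD_conj] using h2 _ (m.2 hx)
  · obtain ⟨g, rfl⟩ := cj_surj k g
    exact (comm_cj k).2 (c g ((cj_mem_Pc k).1 hg))
  · obtain ⟨x, hx, f⟩ := h4 _ ((cj_mem_NA k).2 hq) _ ((cj_mem_NA k).2 hn)
      (by rwa [conj_mul, Ne, conj_eq_one_iff]) ((comm_cj k).2 d)
    obtain ⟨x, rfl⟩ := cj_surj k x
    exact ⟨x, m.1 hx, (eqv_cj k).1 f⟩
  · obtain ⟨x, rfl⟩ := cj_surj k x
    rw [conj_inv, conj_mul, conj_mul, eqv_cj]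
    exact c x ((cj_mem_NA k).1 hx)

theorem UT.uh (hs : s ∈ DD) (ha : UT s a) : UH s a := by
  obtain ⟨k, h1, h2, h3, h4⟩ := ha.std hs
  obtain ⟨g, σ, h5, hπ⟩ := exists_tb h2 h3 h4
  have hu := (ha.cj k).cj g
  have h6 := conj_mem_DD g h2
  refine UH.of_cj k (UH.of_cj g ?_)
  rw [h1, ← h5, conj_eq_of_comm (mem_cent.1 g.2)] at hu ⊢
  rw [← h5] at h6
  exact ⟨UA.card_P h6 hu hπ, fun _ => UA.dd h6 hu hπ, fun _ => UA.fix h6 hu hπ,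
    fun _ hq _ => UA.c1 h6 hu hπ hq, fun _ h k _ => UA.core h6 hu hπ h k, fun _ => UA.triv h6 hu hπ⟩

theorem exists_us (hs : s ∈ DD) (ha : UT s a) : ∃ N1 N2, US s a N1 N2 := by
  have hb := ha.mul hs
  have h1 := ha.uh hs
  have h2 := hb.uh hs
  have e1 := (es_QA ha.conj).1
  have e2 := (es_QA hb.conj).1
  have k := DD_mul_cancel hs a
  refine ⟨NA s a, NA s (s * a), ha.nm, by simpa only [k] using hb.nm.mul, fun x hx y hy => e1.comm x hx.1 y hy.1,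
    fun x hx y hy => e2.comm x hx.1 y hy.1, fun x hx => e1.sq x hx.1, fun x hx => e2.sq x hx.1, ha.mem, hb.mem,
    fun h => ha.ns hs h.1, fun h => hb.ns hs h.1, fun m hm x => ha.cen hs hm,
    fun m hm x => hb.cen hs (k.symm ▸ ⟨hm.2, hm.1⟩), fun m hm m1 => ?_, h1.fix, h1.c1, fun n hn q hq c d => ?_,
    ha.exists_four hs, hb.exists_four hs, h1.core, h1.triv⟩
  · have c := (mem_NA.1 hm.1).2
    have d1 := dd_QA ha.conj hm.1.1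
    have d2 := dd_QA hb.conj hm.2.1
    refine ⟨(e1.sq m hm.1.1).resolve_right fun e => ha.na hs (by
      simpa only [e] using mul_mem (mem_inf.1 hm).2 (mem_inf.1 hm).2), m1,
      fun e => ha.ns hs (e ▸ hm.1.1), c, fun h h' => ?_, fun h => d2.1 ((h1.dd m hm).resolve_left h)⟩
    have f : m * (a * m) = a := by rw [e1.z_comm m hm.1.1, DD_mul_cancel h]
    refine hb.2.2.2.1 (f ▸ (O2_of_lm_zero hs ((mem_O1_iff hs).2 ⟨h, h'⟩)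
      ((mem_O1_iff hs).2 ⟨d1.2 h, mul_assoc s a m ▸ d2.2 h⟩) (mem_O2_of_comm h (d1.2 h) (fun e => ha.2.1 ?_)
        (by rw [f, mul_assoc, DD_mul_self h, mul_one]) (f.symm ▸ ha.2.2.2.1)).2).1)
    exact right_eq_mul.1 e
  · obtain ⟨m, hm, f⟩ := h2.c1 n hn q (k.symm ▸ hq) c d.symm
    exact ⟨m, ⟨k ▸ hm.2, hm.1⟩, f⟩

theorem card_u (hs : s ∈ DD) (ha : UT s a) : Nat.card (Pc s a) = 11689182992793600 := (ha.uh hs).card

end Cfsg.Agent.Gr7
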