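import Mathlib
import Cfsg.Agent.Gr7.Defs

/-! The centraliser of `t0` and `zz`. -/

set_option autoImplicit false

namespace Cfsg.Agent.Gr7

open Subgroup Cfsg.Agent.Spor Cfsg.Agent.Spor.Leech Cfsg.Agent.Gr Cfsg.Agent.Gr6B

variable {s a l n : K} {N : Subgroup K}

namespace ZtAux

open TriV

theorem inR_add {c d : LL} (hc : InR c) (hd : InR d) : InR (c + d) :=
  mem_span_of_pol fun x q1 q2 => by
    rw [pol_add_right, pol_comm x, pol_comm x, hc.pol q1 q2, hd.pol q1 q2, add_zero]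

theorem inR1 : InR (cls v1) := .inr (.inl rfl)

theorem inR2 : InR (cls v2) := .inr (.inr (.inl rfl))

theorem cancel (c d : LL) : c + d + d = c := by rw [add_assoc, Gr6B.ll_add_self, add_zero]

theorem ip_v1' (i j : Pt) (s t : ℤˣ) (hi : i ≠ none) (hi' : i ≠ some 0) (hj : j ≠ none)
    (hj' : j ≠ some 0) : ip v1 (v44 i j s t) = 0 := by
  rw [ip_comm, ip_v1]; simp [v44_apply, hi.symm, hi'.symm, hj.symm, hj'.symm]

theorem exists_k : ∃ k : Co0, k • v1 = v1 ∧ ¬ InR (csm k (cls v2)) := by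
  obtain ⟨k, h1, h2⟩ := trans_pair nm_v1 nm_v2 nm_v1
    (nm_v44 (show (some 2 : Pt) ≠ some 0 by decide) 1 (-1)) (by
      rw [ip_v1_v2, ip_comm, ip_v1]; simp [v44_apply]; decide)
  refine ⟨k, h1, ?_⟩
  rw [csm_cls, h2, InR, ← cls_sub, cls_v3, v1, v2, ← clB_eq_cls, ← clB_eq_cls, ← clB_eq_cls,
    clB_eq_iff (by decide) (by decide), clB_eq_iff (by decide) (by decide),
    clB_eq_iff (by decide) (by decide)]
  rintro (e | e)
  · exact zero_not_mem_ShS (e ▸ clB_mem (by decide))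
  · exact absurd e (by decide)

theorem fixL {c : LL} (h : ∀ g : Co0, g • v1 = v1 → csm g c + c = 0 ∨ csm g c + c = cls v1) :
    c = 0 ∨ c = cls v1 := by
  have h' : ∀ g : Co0, g • v1 = v1 → InR (csm g c + c) := fun g hg =>
    (h g hg).elim .inl fun e => .inr (.inl e)
  obtain ⟨k, h1, h2⟩ := exists_k
  rcases inR_of_fix fun g hg => h' g hg.1 with e | e | e | e
  · exact .inl e
  · exact .inr e
  · exact (h2 (by simpa only [e, cancel] using inR_add (h' k h1) inR2)).elim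
  · refine (h2 ?_).elim
    have := inR_add (h' k h1) inR2
    rw [e, csm_add, csm_cls, h1, add_assoc, cancel, add_comm (cls v1), cancel] at this
    exact this

/-- An invariant subgroup of `Λ / 2Λ` contains the fixed class. -/
theorem v1_mem (W : AddSubgroup LL) (hW : ∀ g : Co0, g • v1 = v1 → ∀ c ∈ W, csm g c ∈ W) {c : LL}
    (hc : c ∈ W) (h0 : c ≠ 0) : cls v1 ∈ W := by
  have k16 : ∀ w, nm w = 32 → ip v1 w = 16 ∨ ip v1 w = -16 → cls w ∈ W → cls v1 ∈ W := by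
    intro w hw h hm
    obtain ⟨w, hw, h, e⟩ := GenH.exists_sign hw h
    rw [e] at hm
    obtain ⟨g, h1, h2⟩ := trans_pair nm_v1 hw nm_v1 (w' := v1 - w)
      (by rw [nm_sub, nm_v1, hw, h]; norm_num) (by rw [ip_sub_right, ip_self, nm_v1, h]; norm_num)
    have := W.add_mem (hW g h1 _ hm) hm
    rwa [csm_cls, h2, cls_sub, cancel] at this
  have hx : ip v1 (v44 none (some 0) 1 1) = 0 := by rw [ip_comm, ip_v1]; simp [v44_apply]
  have tr : ∀ i j : Pt, i ≠ j → i ≠ none → i ≠ some 0 → j ≠ none → j ≠ some 0 → ∀ s t, ∃ g : Co0,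
      g • v1 = v1 ∧ csm g (clC none (some 0)) = cls (v44 i j s t) := fun i j h a b c d s t => by
    obtain ⟨g, h1, h2⟩ := trans_orth nm_v1 (nm_v44 p01 1 1) hx nm_v1 (nm_v44 h s t)
      (ip_v1' i j s t a b c d)
    exact ⟨g, h1, by rw [clC_eq_cls, csm_cls, h2]⟩
  have bc : ∀ i j : Pt, clB i j + cls (e8 none) = clC i j := fun i j => by
    rw [cls_e8, ← cls_e8 i, clB_eq_cls, clC_eq_cls, ← cls_neg, ← cls_add]
    congr 1
    refine Subtype.ext (funext fun p => ?_)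
    simp only [AddSubgroup.coe_add, AddSubgroup.coe_neg, Pi.add_apply, Pi.neg_apply, v44_apply,
      e8_apply, Units.val_neg, Units.val_one]
    split_ifs <;> rfl
  let W2 : AddSubgroup LL :=
    { carrier := {x | ∃ r, InR r ∧ x + r ∈ W}
      zero_mem' := ⟨0, .inl rfl, by simp⟩
      add_mem' := fun ⟨r, h1, h2⟩ ⟨r', h3, h4⟩ =>
        ⟨r + r', inR_add h1 h3, by rw [add_add_add_comm]; exact W.add_mem h2 h4⟩
      neg_mem' := fun h => by rwa [ll_neg] }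
  have e3 : cls v1 + cls v2 = cls (v1 - v2) := (cls_sub _ _).symm
  have i3 : ip v1 (v1 - v2) = 16 := by rw [ip_sub_right, ip_self, nm_v1, ip_v1_v2]; norm_num
  by_cases hR : InR c
  · rcases hR with e | e | e | e
    · exact (h0 e).elim
    · exact e ▸ hc
    · exact k16 v2 nm_v2 (.inl ip_v1_v2) (e ▸ hc)
    · exact k16 _ nm_v3 (.inl i3) (e3 ▸ e ▸ hc)
  obtain ⟨r, hr, hm⟩ := e8_mem W2
    (fun g hg x ⟨r, h1, h2⟩ => ⟨r, h1, by rw [← h1.csm hg, ← csm_add]; exact hW g hg.1 _ h2⟩)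
    ⟨_, inR1, by rw [Gr6B.ll_add_self]; exact W.zero_mem⟩
    ⟨_, inR2, by rw [Gr6B.ll_add_self]; exact W.zero_mem⟩ ⟨0, .inl rfl, by simpa⟩ hR
  have c1 : cls v1 = clB none (some 0) := (clB_eq_cls _ _).symm
  rw [add_comm] at hm
  rcases hr with rfl | rfl | rfl | rfl
  · have k : ∀ i j : Pt, i ≠ j → i ≠ none → i ≠ some 0 → j ≠ none → j ≠ some 0 →
        cls v1 + clB i j ∈ W := fun i j h a b c d => by
      obtain ⟨g, h1, h2⟩ := tr i j h a b c d 1 (-1)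
      have := hW g h1 _ hm
      rwa [← Gr6B.ll_add_self (cls v1), add_assoc, c1, bc, ← c1, csm_add, csm_cls, h1, h2,
        ← clB_eq_cls] at this
    have := W.add_mem (W.add_mem (k (some 1) (some 2) (by decide) (by decide) (by decide) (by decide)
      (by decide)) (k (some 2) (some 3) (by decide) (by decide) (by decide) (by decide) (by decide)))
      (k (some 1) (some 3) (by decide) (by decide) (by decide) (by decide) (by decide))
    rwa [add_add_add_comm (cls v1), Gr6B.ll_add_self, zero_add, clB_add_clB, add_comm,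
      cancel] at this
  · obtain ⟨g, h1, h2⟩ := tr (some 1) (some 2) (by decide) (by decide) (by decide) (by decide)
      (by decide) 1 (-1)
    obtain ⟨g', h3, h4⟩ := tr (some 1) (some 2) (by decide) (by decide) (by decide) (by decide)
      (by decide) 1 1
    have h5 : clC none (some 0) ∈ W := by rwa [c1, bc] at hm
    have := W.add_mem hm (W.add_mem (hW g' h3 _ h5) (hW g h1 _ h5))
    rwa [h2, h4, ← clB_eq_cls, ← clC_eq_cls, ← bc, add_comm (clB _ _), cancel, cancel] at this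
  · rw [v2, ← clB_eq_cls, bc, clC_eq_cls] at hm
    exact k16 _ (nm_v44 p12.symm _ _) (.inr (by rw [ip_comm, ip_v1]; simp [v44_apply, z01])) hm
  · rw [e3, cls_v3, bc, clC_eq_cls] at hm
    exact k16 _ (nm_v44 p02 _ _) (.inl (by rw [ip_comm, ip_v1]; simp [v44_apply, z01])) hm

theorem ne12 : cls v1 ≠ cls v2 := cls_ne_of_ip nm_v1 nm_v2 (by rw [ip_v1_v2]; norm_num)

theorem sg_surj {g : Co0} (hg : g • v1 = v1) : ∃ x : CC, PP.sg x = g :=
  (PP.exists_sg_eq hg (cls_ne_zero nm_v2) ne12 0 0).imp fun _ h => h.1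

theorem four_iff {e : ZMod 2} {c : LL} : Four t0 zz (tq e c) ↔ c = 0 ∨ c = cls v1 := by
  rw [Four, t0_v1, tq_mul_zz, ← tq_zero, zz, tq_inj, tq_inj, tq_inj, tq_inj]
  rcases zmod2_cases e with rfl | rfl <;> simp

theorem mem_QK_of_four (hl : l ∈ CC)
    (h : ∀ x ∈ QK, x ∈ CC → Four t0 zz (l * x * l⁻¹ * x⁻¹)) : l ∈ QK := by
  have := finite_K
  refine mdata.mem_of_triv_perp nm_v1 (.inl t0_v1) l (mem_CC.1 hl).2 (mem_CC.1 hl).1
    fun x hx hc => ?_
  rcases h x hx (mem_CC_of_QK hx hc) with e | e | e | e <;> rw [mul_inv_eq_iff_eq_mul] at e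
  · exact .inl (.inl (e.trans (one_mul x)))
  · exact .inr (.inl e)
  · exact .inl (.inr e)
  · exact .inr (.inr (by rw [e, ← zz_comm_t0, mul_assoc]))

theorem std (hs : s ∈ DD) (ha : ZT s a) : ∃ k : K, k * s * k⁻¹ = t0 ∧
    Pc (k * s * k⁻¹) (k * a * k⁻¹) = CC ∧ (∀ l, Four t0 zz (k * l * k⁻¹) → Four s a l) ∧
    ∀ l N, SM s a l N → SM t0 zz (k * l * k⁻¹) (N.map (MulAut.conj k).toMonoidHom) := by
  obtain ⟨k, h1, h2 | h2⟩ := ha.std hs
  · exact ⟨k, h1, by rw [h1, h2, Pc_zz], fun l h => (four_cj k).1 (by rwa [h1, h2]),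
      fun l N h => h1 ▸ h2 ▸ h.cj k⟩
  · refine ⟨k, h1, by rw [h1, h2, Pc_mul, Pc_zz], fun l h => (four_cj k).1 ?_, fun l N h => ?_⟩
    · rwa [h1, h2, four_mul (DD_mul_self t0_mem)]
    · have := (h.cj k).mul
      rwa [h1, h2, DD_mul_cancel t0_mem] at this

theorem zz_mem {e : ZMod 2} {c : LL} (h : ∀ g ∈ CC, ∀ n ∈ N, g * n * g⁻¹ ∈ N) (hn : tq e c ∈ N)
    (h0 : c ≠ 0) (h1 : c ≠ cls v1) : zz ∈ N := by
  obtain ⟨d, h2, h3⟩ := ActH.exists_pol_sep h0 h1 1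
  have := h (tq 0 d) (mem_CC_of_QK ⟨_, _, rfl⟩ (by
    rw [t0_v1, tq_comm_iff, pol_comm, h3])) _ hn
  rw [tq_conj, h2, ← zz_mul_tq] at this
  exact (N.mul_mem_cancel_right hn).1 this

end ZtAux

open ZtAux

theorem four_z (hl : l ∈ CC) (h : ∀ x ∈ CC, Four t0 zz (l * x * l⁻¹ * x⁻¹)) : Four t0 zz l := by
  obtain ⟨e, c, rfl⟩ := mem_QK_of_four hl fun x _ hx => h x hx
  refine four_iff.2 (fixL fun g hg => ?_)
  obtain ⟨x, rfl⟩ := sg_surj hg
  obtain ⟨f, hf⟩ := PP.sg_spec x (e + qL c) c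
  have := h x x.2
  rw [mul_assoc, mul_assoc, ← mul_assoc x.1, ActH.tq_inv, hf, tq_mul, four_iff, add_comm] at this
  exact this

theorem cen_z (hs : s ∈ DD) (h : ZT s n) (ha : a ∈ Pc s n) (hc : ∀ g ∈ Pc s n, a * g = g * a) :
    Four s n a := by
  obtain ⟨k, -, h2, h3, -⟩ := std hs h
  refine h3 a (four_z (h2 ▸ (cj_mem_Pc k).2 ha) fun x hx => .inl ?_)
  obtain ⟨y, rfl⟩ : ∃ y, x = k * y * k⁻¹ := ⟨k⁻¹ * x * k, by group⟩
  rw [(comm_cj k).2 (hc y ((cj_mem_Pc k).1 (h2 ▸ hx)))]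
  group

theorem sm_z (hs : s ∈ DD) (ha : ZT s a) (h : SM s a l N) : Four s a l := by
  obtain ⟨k, -, -, h3, h4⟩ := std hs ha
  have h := h4 l N h
  refine h3 l ?_
  generalize k * l * k⁻¹ = l at h
  generalize N.map (MulAut.conj k).toMonoidHom = N at h
  have h5 : ∀ n ∈ N, n ∈ QK → Four t0 zz n := by
    rintro _ hn ⟨e, c, rfl⟩
    by_contra hc
    rw [four_iff, not_or] at hc
    let W : AddSubgroup LL :=
      { carrier := {c | ∃ e, tq e c ∈ N}
        zero_mem' := ⟨0, tq_zero ▸ one_mem _⟩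
        add_mem' := fun ⟨_, a⟩ ⟨_, b⟩ => ⟨_, tq_mul _ _ _ _ ▸ mul_mem a b⟩
        neg_mem' := fun a => by rwa [ll_neg] }
    obtain ⟨f, hf⟩ := v1_mem W (fun g hg c ⟨e, he⟩ => by
      obtain ⟨x, rfl⟩ := sg_surj hg
      obtain ⟨f, hf⟩ := PP.sg_spec x e c
      exact ⟨f, hf ▸ h.norm x x.2 _ he⟩) ⟨e, hn⟩ hc.1
    exact h.ns (t0_v1 ▸ GenH.tq_mem (zz_mem h.norm hn hc.1 hc.2) hf 0)
  refine four_z h.mem fun x hx => h5 _ (h.comm x hx) (mem_QK_of_four (h.le (h.comm x hx))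
    fun y hy hy' => h5 _ (h.toNm.comm_mem hy' (h.comm x hx)) (mul_mem
      (conj_mem_QK (mem_CC.1 (h.le (h.comm x hx))).2 hy) (inv_mem hy)))

theorem sq_ne_z (hs : s ∈ DD) (ha : ZT s a) (h : Nm s a N) (h2 : IsPGroup 2 N) (hn : n ∈ N) :
    n * n ≠ s := fun e => by
  obtain ⟨k, h1, h3, -⟩ := std hs ha
  obtain ⟨hle, hN⟩ := h.cj k
  rw [h3] at hle hN
  have hn' := (cj_mem_map k).2 hn
  have e' : k * n * k⁻¹ * (k * n * k⁻¹) = t0 := by rw [conj_mul, e, h1]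
  have h2' := h2.map (MulAut.conj k).toMonoidHom
  generalize k * n * k⁻¹ = n at hn' e'
  generalize N.map (MulAut.conj k).toMonoidHom = N at hle hN hn' h2'
  rcases MT.eq_of_two_group_stab (N := (N.subgroupOf CC).map PP.sg) (h2'.comap_subtype.map _) nm_v1
    (by rintro _ ⟨x, -, rfl⟩; rw [PP.sg_v1]; exact MT.Cg.refl _) (by
      rintro g hg _ ⟨x, hx, rfl⟩
      obtain ⟨y, rfl⟩ := sg_surj hg
      exact ⟨y * x * y⁻¹, hN y y.2 x hx, by simp⟩) _ ⟨⟨n, hle hn'⟩, hn', rfl⟩ with e1 | e1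
  · obtain ⟨f, c, e2⟩ := PP.sg_eq_one.1 e1
    rw [show n = tq f c from e2, tq_mul_self, t0_v1, tq_inj] at e'
    exact cls_ne_zero nm_v1 e'.2.symm
  · exact PP.negOne_ne (e1 ▸ PP.sg_v1 _)

theorem card_z (hs : s ∈ DD) (ha : ZT s a) : Nat.card (Pc s a) = 709767191322427392000 := by
  obtain ⟨k, -, h2, -⟩ := std hs ha
  rw [← card_Pc_cj k, h2, ← Pc_zz, ← Pc_mul, ← zz_comm_t0]
  have h := GenH.card_orbit HH (zz * t0)
  rw [nb_congr (Q := (· ∈ O2 t0)) fun y => ⟨?_, fun hy => ?_⟩, card_centralizer_t0] at h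
  · have h1 : nb (· ∈ O2 t0) = 11707448673375 := kk_vals.2.2.2.2
    rw [h1] at h
    change _ = _ * Nat.card (Pc t0 (zz * t0)) at h
    omega
  · rintro ⟨g, hg, rfl⟩
    have := (mem_O2_conj g t0_mem).2 zt0_mem
    rwa [conj_eq_of_comm (mem_cent.1 hg)] at this
  · obtain ⟨g, h1, h2⟩ := O2_std t0_mem hy
    exact ⟨g⁻¹, inv_mem (mem_cent.2 (mul_inv_eq_iff_eq_mul.1 h1)), by rw [← h2]; group⟩

theorem exists_sq (hs : s ∈ DD) (h2 : a * a = 1) (h1 : a ≠ 1) (hc : s * a = a * s) (ha : a ∉ DD) :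
    ∃ N, Nm s a N ∧ IsPGroup 2 N ∧ ∃ n ∈ N, n * n = a := by
  have := finite_K
  obtain ⟨k, rfl⟩ := isConj_iff.1 ((Gr6.K_two a h2 h1).resolve_right ha)
  obtain ⟨s, rfl⟩ : ∃ y, s = k * y * k⁻¹ := ⟨k⁻¹ * s * k, by group⟩
  rw [comm_cj] at hc
  rw [mem_DD_conj] at hs
  have hN : Nm s zz (QK ⊓ centralizer {s}) :=
    ⟨fun x hx => mem_Pc.2 ⟨(mem_cent.1 hx.2).symm, CL.es2.z_comm x hx.1⟩, fun g hg n hn =>
      ⟨conj_mem_QK (mem_Pc.1 hg).2 hn.1, (centralizer {s}).mul_mem (mul_mem hg.1 hn.2)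
        (inv_mem hg.1)⟩⟩
  have h17 : 2 ^ 17 ≤ Nat.card (QK ⊓ centralizer {s} : Subgroup K) := by
    by_cases hq : s ∈ QK
    · obtain ⟨e, c, rfl⟩ := hq
      have := GenH.card_le_two le_rfl e c
      rw [card_QK] at this
      omega
    · exact Sub.card_comm hs hc.symm hq
  obtain ⟨n, hn, e⟩ : ∃ n ∈ QK ⊓ centralizer {s}, n * n = zz := by
    by_contra hn
    push Not at hn
    have sq : ∀ n ∈ QK ⊓ centralizer {s}, n * n = 1 := fun n h =>
      (CL.es2.sq n h.1).resolve_right (hn n h)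
    have k1 := CL.es2.card_mul_card_centralizer (A := QK ⊓ centralizer {s}) inf_le_left
      ⟨CL.es2.z_mem, mem_cent.2 hc.symm⟩
    have k2 := card_le_of_le (show QK ⊓ centralizer {s} ≤
        QK ⊓ centralizer ((QK ⊓ centralizer {s} : Subgroup K) : Set K) from fun x hx =>
      ⟨hx.1, mem_centralizer_iff.2 fun y hy =>
        Sub.comm_of_sq (sq y hy) (sq x hx) (sq _ (mul_mem hy hx))⟩)
    rw [card_QK] at k1
    have := Nat.mul_le_mul h17 (h17.trans k2)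
    omega
  exact ⟨_, hN.cj k, (CL.es2.isPGroup.to_le inf_le_left).map _, _, (cj_mem_map k).2 hn,
    by rw [conj_mul, e]⟩

theorem commutator_CC : commutator CC = ⊤ := by
  have := finite_K
  have hN : ∀ g ∈ CC, ∀ n ∈ (commutator CC).map CC.subtype,
      g * n * g⁻¹ ∈ (commutator CC).map CC.subtype := by
    rintro g hg _ ⟨n, hn, rfl⟩
    exact ⟨_, (inferInstance : (commutator CC).Normal).conj_mem n hn ⟨g, hg⟩, rfl⟩
  have cm : ∀ x y : CC, x.1 * y * x.1⁻¹ * y.1⁻¹ ∈ (commutator CC).map CC.subtype := fun x y =>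
    ⟨_, commutator_mem_commutator (mem_top x) (mem_top y), rfl⟩
  obtain ⟨g, h1, h2⟩ := trans_pair nm_v1 nm_v2 nm_v1 nm_v3
    (by rw [ip_sub_right, ip_self, nm_v1, ip_v1_v2]; norm_num)
  obtain ⟨k, k1, k2⟩ := exists_k
  have q : ∀ g : Co0, g • v1 = v1 →
      ∃ f, tq f (csm g (cls v2) + cls v2) ∈ (commutator CC).map CC.subtype := fun g hg => by
    obtain ⟨x, rfl⟩ := sg_surj hg
    obtain ⟨f, hf⟩ := PP.sg_spec x 0 (cls v2)
    have := cm x sc
    rw [show (sc : K) = tq 0 (cls v2) from s0_v2, hf, ActH.tq_inv, tq_mul] at this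
    exact ⟨_, this⟩
  have hz : zz ∈ (commutator CC).map CC.subtype := by
    obtain ⟨f, hf⟩ := q k k1
    exact zz_mem hN hf (fun e => k2 (by rw [ll_eq_of_add e]; exact inR2))
      fun e => k2 (by rw [← cancel (csm _ _) (cls v2), e]; exact inR_add inR1 inR2)
  have ht : t0 ∈ (commutator CC).map CC.subtype := by
    obtain ⟨f, hf⟩ := q g h1
    rw [csm_cls, h2, cls_sub, cancel] at hf
    exact t0_v1 ▸ GenH.tq_mem hz hf 0
  obtain ⟨x, rfl⟩ := sg_surj k1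
  obtain ⟨y, hy⟩ : ∃ y : CC, y.1 * x * y.1⁻¹ * x.1⁻¹ ∉ QK := by
    by_contra hn
    push Not at hn
    refine k2 (inR_of_fix fun u hu => .inl ?_)
    obtain ⟨y, rfl⟩ := sg_surj hu.1
    have := PP.sg_eq_one.2 (show (y * x * y⁻¹ * x⁻¹ : CC).1 ∈ QK from hn y)
    rw [map_mul, map_mul, map_mul, map_inv, map_inv, mul_inv_eq_one, mul_inv_eq_iff_eq_mul] at this
    rw [← csm_mul, this, csm_mul, csm_cls (PP.sg y), hu.2, Gr6B.ll_add_self]
  refine eq_top_iff.2 fun c _ => (mem_map_iff_mem CC.subtype_injective).1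
    (BM.mem_of_norm mdata nm_v1 (.inl t0_v1) (fun c a b => hN c (mem_CC.2 ⟨b, a⟩)) hz ht (cm y x)
      (mem_CC.1 (y * x * y⁻¹ * x⁻¹).2).2 (mem_CC.1 (y * x * y⁻¹ * x⁻¹).2).1 hy (mem_CC.1 c.2).2
      (mem_CC.1 c.2).1)

end Cfsg.Agent.Gr7
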