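import Mathlib
import Cfsg.Agent.Gr7.UtA
import Cfsg.Agent.Gr7.Zt

/-! Pairs of type `u`. -/

set_option autoImplicit false

namespace Cfsg.Agent.Gr7

open Subgroup Cfsg.Agent.Spor Cfsg.Agent.Spor.Leech Cfsg.Agent.Gr Cfsg.Agent.Gr6B

variable {s a l n : K} {N N1 N2 : Subgroup K}

theorem Nm.comm_mem' (h : Nm s a N) {g : K} (hg : g ∈ Pc s a) (hn : n ∈ N) : g * n * g⁻¹ * n⁻¹ ∈ N :=
  mul_mem (h.norm g hg _ hn) (inv_mem hn)

theorem ut_comm_iff {x y : K} : x * y * x⁻¹ * y⁻¹ = 1 ↔ x * y = y * x := by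
  rw [mul_inv_eq_one, mul_inv_eq_iff_eq_mul]

theorem ut_comm_mul {c x g : K} (hc : c * g = g * c) (hx : c * x = x * c) :
    c * x * g * (c * x)⁻¹ * g⁻¹ = x * g * x⁻¹ * g⁻¹ := by
  rw [hx, mul_inv_rev, mul_assoc x c g, hc]; group

theorem ut_inf {b q : K} (hN : Nm s a N) (h1 : Nm s a N1) (h2 : Nm s a N2)
    (hb : ∀ g ∈ Pc s a, b * g = g * b) (hI : ∀ m ∈ N1, m ∈ N2 → m ∈ N → m = 1)
    (fix : ∀ m ∈ N1, m ∈ N2 → (∀ g ∈ Pc s a, m * g = g * m) → m = 1)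
    (c : ∀ q ∈ N1, (∀ n ∈ N2, q * n = n * q) → ∃ m ∈ N1, m ∈ N2 ∧ Eqv b q m) (q1 : q ∈ N1) (qN : q ∈ N) :
    q = 1 ∨ q = b := by
  obtain ⟨m, m1, m2, rfl | rfl⟩ := c q q1 fun n hn => ut_comm_iff.1
    (hI _ (h1.comm_mem (h2.le hn) q1) (h2.comm_mem' (h1.le q1) hn) (hN.comm_mem (h2.le hn) qN))
  · exact .inl (hI _ m1 m2 qN)
  · exact .inr (by
      rw [fix m m1 m2 fun g hg => ut_comm_iff.1 (hI _ (h1.comm_mem hg m1) (h2.comm_mem hg m2)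
        (ut_comm_mul (hb g hg) (hb m (h1.le m1)) ▸ hN.comm_mem hg qN)), mul_one])

namespace US

variable (hs : s ∈ DD) (ha : UT s a) (u : US s a N1 N2)
include u

include ha in
theorem a_not : a ∉ N2 := fun h => u.s2 (by simpa [mul_assoc, ha.1] using mul_mem u.m2 h)

include ha in
theorem sa_not : s * a ∉ N1 := fun h => u.s1 (by simpa [mul_assoc, ha.1] using mul_mem h u.m1)

include ha in
theorem sq_I {m : K} (h1 : m ∈ N1) (h2 : m ∈ N2) : m * m = 1 :=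
  (u.sq1 m h1).resolve_right fun e => u.a_not ha (e ▸ mul_mem h2 h2)

theorem c1' : ∀ q ∈ N1, (∀ n ∈ N2, q * n = n * q) → ∃ m ∈ N1, m ∈ N2 ∧ Eqv a q m := fun q hq h =>
  let ⟨n, h1, h2⟩ := u.o2
  let ⟨m, hm, e⟩ := u.c1 q hq n h1 h2 (h n h1)
  ⟨m, hm.1, hm.2, e⟩

theorem c2' : ∀ n ∈ N2, (∀ q ∈ N1, n * q = q * n) → ∃ m ∈ N2, m ∈ N1 ∧ Eqv (s * a) n m := fun n hn h =>
  let ⟨q, h1, h2⟩ := u.o1
  let ⟨m, hm, e⟩ := u.c2 n hn q h1 h2 (h q h1).symm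
  ⟨m, hm.2, hm.1, e⟩

end US

theorem sm_u (hs : s ∈ DD) (ha : UT s a) (h : SM s a l N) : Four s a l := by
  obtain ⟨N1, N2, u⟩ := exists_us hs ha
  have ca : ∀ g ∈ Pc s a, a * g = g * a := fun g hg => (mem_Pc.1 hg).2
  have csa : ∀ g ∈ Pc s a, s * a * g = g * (s * a) := fun g hg => by
    rw [mul_assoc, ca g hg, ← mul_assoc, (mem_Pc.1 hg).1, mul_assoc]
  have hI : ∀ m ∈ N1, m ∈ N2 → m ∈ N → m = 1 := fun m m1 m2 mN => by_contra fun m0 => by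
    rcases cen_z hs (u.typ m ⟨m1, m2⟩ m0) (mem_Pc.2 ⟨ha.2.2.1, (ca m (u.n1.le m1)).symm⟩)
      (h.cen m mN (u.sq_I ha m1 m2) m0) with e | e | e | e
    · exact ha.2.1 e
    · exact ha.2.2.2.1 (e ▸ hs)
    · exact u.a_not ha (e ▸ m2)
    · exact u.sa_not ha (by rwa [e, DD_mul_cancel hs])
  have fix : ∀ m ∈ N1, m ∈ N2 → (∀ g ∈ Pc s a, m * g = g * m) → m = 1 := fun m m1 m2 => u.fix m ⟨m1, m2⟩
  have i1 : ∀ x ∈ N1, l * x * l⁻¹ * x⁻¹ = 1 ∨ l * x * l⁻¹ * x⁻¹ = a := fun x hx =>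
    ut_inf h.toNm u.n1 u.n2 ca hI fix u.c1' (u.n1.comm_mem' h.mem hx) (h.comm x (u.n1.le hx))
  have i2 : ∀ x ∈ N2, l * x * l⁻¹ * x⁻¹ = 1 ∨ l * x * l⁻¹ * x⁻¹ = s * a := fun x hx =>
    ut_inf h.toNm u.n2 u.n1 csa (fun m m2 m1 => hI m m1 m2) (fun m m2 m1 => fix m m1 m2) u.c2'
      (u.n2.comm_mem' h.mem hx) (h.comm x (u.n2.le hx))
  obtain ⟨n, hn, q, hq, rfl⟩ := u.triv l h.mem fun x hx =>
    (i2 x hx).imp mul_inv_eq_one.1 mul_inv_eq_iff_eq_mul.1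
  have key : ∀ c m : K, (c = 1 ∨ c = s * a) → m ∈ N1 → n * q = c * m → Four s a (n * q) := by
    intro c m hc hm e
    have cc : ∀ g ∈ Pc s a, c * g = g * c := fun g hg => by
      rcases hc with rfl | rfl
      exacts [by simp, csa g hg]
    obtain ⟨k, k1, k2, e'⟩ := u.c1' m hm fun x hx => ut_comm_iff.1 <| by
      have := i2 x hx
      rw [e, ut_comm_mul (cc x (u.n2.le hx)) (cc m (u.n1.le hm))] at this
      exact this.resolve_right fun e => u.sa_not ha (e ▸ u.n1.comm_mem (u.n2.le hx) hm)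
    obtain ⟨d, hd, rfl⟩ : ∃ d, (d = 1 ∨ d = a) ∧ m = d * k :=
      e'.elim (fun e => ⟨1, .inl rfl, by simpa using e⟩) fun e => ⟨a, .inr rfl, e⟩
    have dd : ∀ g ∈ Pc s a, c * d * g = g * (c * d) := fun g hg => by
      rcases hd with rfl | rfl
      · simpa using cc g hg
      · rw [mul_assoc, ca g hg, ← mul_assoc, cc g hg, mul_assoc]
    rw [← mul_assoc] at e
    have k0 : k = 1 := fix k k1 k2 fun g hg => ut_comm_iff.1 (hI _ (u.n1.comm_mem hg k1) (u.n2.comm_mem hg k2) (by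
      rw [← ut_comm_mul (dd g hg) (dd k (u.n1.le k1)), ← e]; exact h.comm g hg))
    rw [e, k0, mul_one]
    rcases hc with rfl | rfl <;> rcases hd with rfl | rfl <;> simp [Four, mul_assoc, ha.1]
  obtain ⟨m, m2, m1, e⟩ := u.c2' n hn fun x hx => ut_comm_iff.1 <| by
    have hx' := u.n1.norm n (u.n2.le hn) x hx
    have e1 : n * q * x * (n * q)⁻¹ * x⁻¹ = n * x * n⁻¹ * x⁻¹ ∨
        n * q * x * (n * q)⁻¹ * x⁻¹ = a * (n * x * n⁻¹ * x⁻¹) :=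
      (u.es1 q hq x hx).imp (fun e => by rw [mul_assoc n, e]; group) fun e => by
        rw [mul_assoc n, e, ← mul_assoc n, ← ca n (u.n2.le hn)]; group
    have e2 := u.n2.comm_mem (u.n1.le hx) hn
    rcases e1 with e1 | e1 <;> rcases i1 x hx with e3 | e3 <;> rw [e1] at e3
    · exact e3
    · exact (u.a_not ha (e3 ▸ e2)).elim
    · exact (u.a_not ha (by rw [eq_inv_of_mul_eq_one_left e3]; exact inv_mem e2)).elim
    · exact mul_eq_left.1 e3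
  rcases e with rfl | rfl
  · exact key 1 _ (.inl rfl) (mul_mem m1 hq) (one_mul _).symm
  · exact key _ _ (.inr rfl) (mul_mem m1 hq) (mul_assoc _ _ _)

theorem sq_ne_u (hs : s ∈ DD) (ha : UT s a) (h : Nm s a N) (h2 : IsPGroup 2 N) (hn : n ∈ N) : n * n ≠ s := by
  intro e
  obtain ⟨N1, N2, u⟩ := exists_us hs ha
  obtain ⟨n, hn, q, hq, e0⟩ := u.core N h h2 _ hn
  rw [e0] at e
  have m1 : q⁻¹ * n⁻¹ * q * n ∈ N1 := by simpa using u.n1.comm_mem (inv_mem (u.n2.le hn)) (inv_mem hq)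
  have m2 : q⁻¹ * n⁻¹ * q * n ∈ N2 := by simpa using u.n2.comm_mem' (inv_mem (u.n1.le hq)) (inv_mem hn)
  have e1 : n * n * (q * q) * (q⁻¹ * n⁻¹ * q * n) = s := by
    rw [mul_assoc, mul_assoc q q, ← u.cen1 _ ⟨m1, m2⟩ q hq, ← e]; group
  rcases u.sq2 n hn with a1 | a1
  · exact u.s1 (by rw [← e1, a1, one_mul]; exact mul_mem (mul_mem hq hq) m1)
  rcases u.sq1 q hq with a2 | a2
  · exact u.s2 (by rw [← e1, a2, mul_one]; exact mul_mem (mul_mem hn hn) m2)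
  rw [a1, a2, mul_assoc s, ha.1, mul_one, mul_eq_left] at e1
  obtain ⟨m, hm, k⟩ := u.c1 q hq n hn (fun k => u.sa_not ha (a1 ▸ k ▸ one_mem _)) (by
    rw [← mul_one (n * q), ← e1]; group)
  have := u.sq_I ha hm.1 hm.2
  rcases k with rfl | rfl
  · exact ha.2.1 (a2.symm.trans this)
  · rw [mul_assoc, ← mul_assoc m, ← (mem_Pc.1 (u.n1.le hm.1)).2, mul_assoc, this, mul_one, ha.1] at a2
    exact ha.2.1 a2.symm

end Cfsg.Agent.Gr7
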