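import Mathlib
import Cfsg.Agent.Gr7.Ut
import Cfsg.Agent.Gr7.St

/-! Groups with a standard subgroup `2·B`: fusion of the central involution. -/

set_option autoImplicit false

namespace Cfsg.Agent.Gr7

open Subgroup Cfsg.Agent.Spor Cfsg.Agent.Spor.Leech Cfsg.Agent.Gr Cfsg.Agent.Gr6B

namespace FB

theorem tH_comm (y : HH) : tH * y = y * tH :=
  Subtype.ext (mem_centralizer_singleton_iff.1 y.2).symm

theorem coe_comm (y : HH) : t0 * (y : K) = y * t0 := (mem_centralizer_singleton_iff.1 y.2).symm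

theorem Pc_le (a : K) : Pc t0 a ≤ HH := inf_le_left

theorem mem_HH {y : K} (h : t0 * y = y * t0) : y ∈ HH := mem_centralizer_singleton_iff.2 h.symm

variable {G : Type*} [Group G] {ι ι' : HH →* G} {a a' : HH}

theorem map_Pc (h : Ctr0 ι) (a : HH) :
    ((Pc t0 a).subgroupOf HH).map ι = centralizer {ι tH} ⊓ centralizer {ι a} := by
  ext g
  simp only [mem_inf, mem_centralizer_singleton_iff]
  constructor
  · rintro ⟨x, hx, rfl⟩
    have e : x * a = a * x := Subtype.ext (mem_Pc.1 (mem_subgroupOf.1 hx)).2.symm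
    exact ⟨by simp only [← map_mul, tH_comm], by simp only [← map_mul, e]⟩
  · rintro ⟨h1, h2⟩
    obtain ⟨x, rfl⟩ := h.onto g h1.symm
    have e : x * a = a * x := h.inj (by simp only [map_mul, h2])
    exact ⟨x, mem_subgroupOf.2 (mem_Pc.2 ⟨coe_comm x, (congrArg Subtype.val e).symm⟩), rfl⟩

theorem card_Pc (h : Ctr0 ι) (a : HH) :
    Nat.card (Pc t0 a) = Nat.card (centralizer {ι tH} ⊓ centralizer {ι a} : Subgroup G) := by
  rw [← map_Pc h a, card_map_of_injective h.inj]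
  exact (Nat.card_congr (subgroupOfEquivOfLe (Pc_le a)).toEquiv).symm

theorem tr (h : Ctr0 ι) (h' : Ctr0 ι') (e1 : ι' tH = ι a) (e2 : ι tH = ι' a') {x : HH}
    (hx : (x : K) ∈ Pc t0 a) : ∃ y : HH, (y : K) ∈ Pc t0 a' ∧ ι' y = ι x := by
  have h1 : ι x ∈ ((Pc t0 a').subgroupOf HH).map ι' := by
    rw [map_Pc h' a', e1, ← e2, inf_comm, ← map_Pc h a]
    exact mem_map_of_mem ι (mem_subgroupOf.2 hx)
  obtain ⟨y, hy, e⟩ := h1
  exact ⟨y, mem_subgroupOf.1 hy, e⟩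

theorem transfer (h : Ctr0 ι) (h' : Ctr0 ι') (e1 : ι' tH = ι a) (e2 : ι tH = ι' a')
    {N : Subgroup K} (hN : Nm t0 a N) (h2 : IsPGroup 2 N) {n : K} (hn : n ∈ N) (e : n * n = a) :
    ∃ N', Nm t0 a' N' ∧ IsPGroup 2 N' ∧ ∃ n' ∈ N', n' * n' = t0 := by
  refine ⟨(((N.subgroupOf HH).map ι).comap ι').map HH.subtype, ⟨?_, ?_⟩, ?_, ?_⟩
  · rintro _ ⟨y, ⟨x, hx, exy⟩, rfl⟩
    obtain ⟨y', hy', e'⟩ := tr h h' e1 e2 (hN.le (mem_subgroupOf.1 hx))
    exact h'.inj (e'.trans exy) ▸ hy'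
  · rintro g hg _ ⟨y, ⟨x, hx, exy⟩, rfl⟩
    obtain ⟨k, hk, e'⟩ := tr h' h e2 e1 (x := ⟨g, Pc_le _ hg⟩) hg
    refine ⟨⟨g, Pc_le _ hg⟩ * y * ⟨g, Pc_le _ hg⟩⁻¹, ⟨k * x * k⁻¹,
      mem_subgroupOf.2 (hN.norm _ hk _ (mem_subgroupOf.1 hx)), ?_⟩, rfl⟩
    simp only [map_mul, map_inv, e', exy]
  · exact (((h2.comap_subtype).map ι).comap_of_injective ι' h'.inj).map _
  · obtain ⟨y, -, e'⟩ := tr h h' e1 e2 (x := ⟨n, Pc_le _ (hN.le hn)⟩) (hN.le hn)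
    refine ⟨y, ⟨y, ⟨_, mem_subgroupOf.2 hn, e'.symm⟩, rfl⟩, ?_⟩
    have e3 : (⟨n, Pc_le _ (hN.le hn)⟩ : HH) * ⟨n, Pc_le _ (hN.le hn)⟩ = a := Subtype.ext e
    have : y * y = tH := h'.inj (by simp only [map_mul, e', e1, ← e3])
    exact congrArg Subtype.val this

theorem tH_sq : tH * tH = 1 := Subtype.ext (DD_mul_self t0_mem)

theorem tH_ne : tH ≠ 1 := fun e => DD_ne_one t0_mem (congrArg Subtype.val e)

theorem facts (h : Ctr0 ι) (h' : Ctr0 ι') (e1 : ι' tH = ι a) :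
    (a : K) * a = 1 ∧ (a : K) ≠ 1 := by
  have h1 : a * a = 1 := h.inj (by simp only [map_mul, ← e1]; rw [← map_mul, tH_sq, map_one, map_one])
  refine ⟨congrArg Subtype.val h1, fun e => tH_ne (h'.inj ?_)⟩
  have : a = 1 := Subtype.ext e
  simp only [e1, this, map_one]

/-- A conjugate of the central involution comes from the class `DD`. -/
theorem mem_DD (h : Ctr0 ι) (hc : IsConj (ι tH) (ι a)) : (a : K) ∈ DD := by
  by_contra ha
  obtain ⟨g, hg⟩ := isConj_iff.1 hc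
  have h' := h.cj g
  have e1 : ((MulAut.conj g).toMonoidHom.comp ι) tH = ι a := hg
  generalize (MulAut.conj g).toMonoidHom.comp ι = ι' at h' e1
  obtain ⟨a', e2⟩ := h'.onto (ι tH) (by simp only [e1, ← map_mul, tH_comm])
  have n1 : (a : K) ≠ t0 := fun e => ha (e ▸ t0_mem)
  have n2 : (a' : K) ≠ t0 := fun e => n1 (congrArg Subtype.val (h.inj (by
    have : a' = tH := Subtype.ext e
    rw [← e1, ← this, e2, this]) : a = tH))
  obtain ⟨f1, f2⟩ := facts h h' e1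
  obtain ⟨f3, f4⟩ := facts h' h e2.symm
  obtain ⟨N, hN, h2, n, hn, e⟩ := exists_sq t0_mem f1 f2 (coe_comm a) ha
  obtain ⟨N', hN', h2', n', hn', e'⟩ := transfer h h' e1 e2.symm hN h2 hn e
  have c : Nat.card (Pc t0 a) = Nat.card (Pc t0 a') := by
    rw [card_Pc h, card_Pc h', e1, e2, inf_comm]
  rcases types f3 f4 n2 (coe_comm a') with s | s | s
  · have c1 := c.trans (card_s t0_mem s.1 s.2)
    rcases types f1 f2 n1 (coe_comm a) with r | r | r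
    · exact ha r.1
    · exact absurd (c1.symm.trans (card_z t0_mem r)) (by norm_num)
    · exact absurd (c1.symm.trans (card_u t0_mem r)) (by norm_num)
  · exact sq_ne_z t0_mem s hN' h2' hn' e'
  · exact sq_ne_u t0_mem s hN' h2' hn' e'

theorem cases_DD (ha : (a : K) ∈ DD) : a = tH ∨ (a : K) ∈ O1 t0 ∨ (a : K) ∈ O2 t0 := by
  by_cases e : (a : K) = t0
  · exact .inl (Subtype.ext e)
  by_cases h1 : t0 * (a : K) ∈ DD
  · exact .inr (.inl ((mem_O1_iff t0_mem).2 ⟨ha, h1⟩))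
  · exact .inr (.inr (mem_O2_of_comm t0_mem ha (Ne.symm e) (coe_comm a) h1))

theorem conj_O1 (ι : HH →* G) (h1 : (a : K) ∈ O1 t0) (h2 : (a' : K) ∈ O1 t0) :
    IsConj (ι a) (ι a') := by
  obtain ⟨g, hg, e⟩ := O1_trans t0_mem h1 h2
  exact ι.map_isConj (isConj_iff.2 ⟨⟨g, mem_HH hg.symm⟩, Subtype.ext e⟩)

theorem conj_O2 (ι : HH →* G) (h1 : (a : K) ∈ O2 t0) (h2 : (a' : K) ∈ O2 t0) :
    IsConj (ι a) (ι a') := by
  have k : ∀ {b : HH}, (b : K) ∈ O2 t0 → IsConj (ι b) (ι (zH * tH)) := fun hb => by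
    obtain ⟨g, hg, e⟩ := O2_std t0_mem hb
    exact ι.map_isConj (isConj_iff.2
      ⟨⟨g, mem_HH (mul_inv_eq_iff_eq_mul.1 hg).symm⟩, Subtype.ext e⟩)
  exact (k h1).trans (k h2).symm

/-- The picture at a conjugate `ι x` of the central involution. -/
theorem pic (h : Ctr0 ι) {x y : HH} (hx : IsConj (ι tH) (ι x)) (hc : x * y = y * x) :
    ∃ b : HH, IsConj (ι b) (ι y) ∧ IsConj (ι (tH * b)) (ι (x * y)) ∧ (b = tH → x = y) := by
  obtain ⟨g, hg⟩ := isConj_iff.1 hx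
  obtain ⟨b, e⟩ := (h.cj g).onto (ι y) (by
    change g * ι tH * g⁻¹ * ι y = ι y * (g * ι tH * g⁻¹)
    simp only [hg, ← map_mul, hc])
  change g * ι b * g⁻¹ = ι y at e
  refine ⟨b, isConj_iff.2 ⟨g, e⟩, isConj_iff.2 ⟨g, ?_⟩, fun f => h.inj ?_⟩
  · simp only [map_mul, ← hg, ← e, conj_mul]
  · rw [← hg, ← e, f]

theorem o2 (e : ZMod 2) {i j : Pt} (hij : i ≠ j) (h1 : i ≠ none) (h2 : i ≠ some 0) (h3 : j ≠ none)
    (h4 : j ≠ some 0) : tq e (clB i j) ∈ O2 t0 := by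
  have k : ∀ {u x : K}, u = tq 0 (cls (v44 none (some 0) 1 (-1))) →
      x = tq e (cls (v44 i j 1 (-1))) → x ∈ DD ∧ lm u x = 0 := by
    rintro _ _ rfl rfl
    exact ⟨tq_cls_mem _ (nm_v44 hij _ _), (lm_tq_iff _ _ (nm_v44 p01 _ _) (nm_v44 hij _ _)).2.2.2
      (.inl (ip_v44_v44_of_ne h1 h2 h3 h4 _ _ _ _))⟩
  exact k t0_eq (congrArg _ (clB_eq_cls i j))

theorem exists_tri : ∃ x y : HH, (x : K) ∈ O2 t0 ∧ (y : K) ∈ O2 t0 ∧
    ((x * y : HH) : K) ∈ O2 t0 ∧ x * y = y * x := by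
  have h1 := o2 0 (i := some 1) (j := some 2) (by decide) (by decide) (by decide) (by decide)
    (by decide)
  have h2 := o2 0 (i := some 2) (j := some 3) (by decide) (by decide) (by decide) (by decide)
    (by decide)
  have h3 : tq 0 (clB (some 1) (some 2)) * tq 0 (clB (some 2) (some 3)) ∈ O2 t0 :=
    (tq_mul _ _ _ _).symm ▸ (clB_add_clB (some 1) (some 2) (some 3)).symm ▸
      o2 _ (by decide) (by decide) (by decide) (by decide) (by decide)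
  generalize tq 0 (clB (some 1) (some 2)) = x at h1 h3
  generalize tq 0 (clB (some 2) (some 3)) = y at h2 h3
  refine ⟨⟨x, mem_HH (O2_comm t0_mem h1)⟩, ⟨y, mem_HH (O2_comm t0_mem h2)⟩, h1, h2, h3,
    Subtype.ext ?_⟩
  have := DD_inv h3.1
  simp only [mul_inv_rev, DD_inv h1.1, DD_inv h2.1] at this
  exact this.symm

theorem S_of_T (h : Ctr0 ι) (T : ∀ y : HH, (y : K) ∈ O2 t0 → IsConj (ι tH) (ι y)) :
    ∃ b : HH, (b : K) ∈ O1 t0 ∧ IsConj (ι tH) (ι b) := by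
  obtain ⟨x, y, h1, h2, h3, hc⟩ := exists_tri
  obtain ⟨b, c1, c2, -⟩ := pic h (T x h1) hc
  have d1 := (T y h2).trans c1.symm
  exact ⟨b, (mem_O1_iff t0_mem).2 ⟨mem_DD h d1, mem_DD h ((T _ h3).trans c2.symm)⟩, d1⟩

theorem T_of_S (h : Ctr0 ι) (S : ∀ y : HH, (y : K) ∈ O1 t0 → IsConj (ι tH) (ι y)) :
    ∃ b : HH, (b : K) ∈ O2 t0 ∧ IsConj (ι tH) (ι b) := by
  obtain ⟨y1, y2, -⟩ := y3_mem_NN
  let x : HH := ⟨s0, mem_HH (O1_comm t0_mem s0_mem)⟩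
  let y : HH := ⟨y3, mem_HH (O1_comm t0_mem y1)⟩
  obtain ⟨c, c1, c2, c3⟩ := pic h (x := x) (y := y) (S x s0_mem)
    (Subtype.ext (O1_comm s0_mem.1 y2))
  have d1 := (S y y1).trans c1.symm
  rcases cases_DD (mem_DD h d1) with e | e | e
  · exact absurd (congrArg Subtype.val (c3 e)).symm (O1_ne s0_mem.1 y2)
  · refine ⟨x * y, ?_, (S (tH * c) (O1_mul t0_mem e)).trans c2⟩
    have e1 : s0 * y3 = zz * t0 := by
      rw [zz_comm_t0, ← tri_prod, mul_assoc t0 s0, DD_mul_cancel t0_mem]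
    exact (show ((x * y : HH) : K) = zz * t0 from e1) ▸ zt0_mem
  · exact ⟨c, e, d1⟩

end FB

open FB in
theorem Ctr0.ctr {G : Type*} [Group G] {ι : HH →* G} (h : Ctr0 ι) {a : HH} (ha : a ≠ tH)
    (hc : IsConj (ι tH) (ι a)) : Ctr ι := by
  have k1 : ∀ {b : HH}, (b : K) ∈ O1 t0 → IsConj (ι tH) (ι b) →
      ∀ y : HH, (y : K) ∈ O1 t0 → IsConj (ι tH) (ι y) :=
    fun hb e y hy => e.trans (conj_O1 ι hb hy)
  have k2 : ∀ {b : HH}, (b : K) ∈ O2 t0 → IsConj (ι tH) (ι b) →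
      ∀ y : HH, (y : K) ∈ O2 t0 → IsConj (ι tH) (ι y) :=
    fun hb e y hy => e.trans (conj_O2 ι hb hy)
  have ST : (∀ y : HH, (y : K) ∈ O1 t0 → IsConj (ι tH) (ι y)) ∧
      ∀ y : HH, (y : K) ∈ O2 t0 → IsConj (ι tH) (ι y) := by
    rcases cases_DD (mem_DD h hc) with e | e | e
    · exact (ha e).elim
    · obtain ⟨b, hb, e'⟩ := T_of_S h (k1 e hc)
      exact ⟨k1 e hc, k2 hb e'⟩
    · obtain ⟨b, hb, e'⟩ := S_of_T h (k2 e hc)
      exact ⟨k1 hb e', k2 e hc⟩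
  refine ⟨h, fun y => ⟨mem_DD h, fun hy => ?_⟩⟩
  rcases cases_DD hy with e | e | e
  · exact e ▸ IsConj.refl _
  · exact ST.1 y e
  · exact ST.2 y e

end Cfsg.Agent.Gr7
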