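import Mathlib
import Cfsg.Agent.Gr7.Zt

/-! The marking of the stabiliser of `{t, z t}`. -/

set_option autoImplicit false

namespace Cfsg.Agent.Gr7

open Subgroup Cfsg.Agent.Spor Cfsg.Agent.Spor.Leech Cfsg.Agent.Gr Cfsg.Agent.Gr6B

namespace BetAux

theorem desc {A B : Type*} [Group A] [Group B] [Finite B] {π : A →* B} (hπ : Function.Surjective π)
    (α : A ≃* A) (h : ∀ x, π x = 1 → π (α x) = 1) : ∃ γ : MulAut B, ∀ x, γ (π x) = π (α x) := by
  have e : ∀ x, π.liftOfSurjective hπ ⟨π.comp α.toMonoidHom, h⟩ (π x) = π (α x) := fun x =>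
    π.liftOfRightInverse_comp_apply _ _ _ x
  refine ⟨MulEquiv.ofBijective (π.liftOfSurjective hπ ⟨π.comp α.toMonoidHom, h⟩)
    (Finite.surjective_iff_bijective.1 fun b => ?_), e⟩
  obtain ⟨x, rfl⟩ := (hπ.comp α.surjective) b
  exact ⟨π x, e x⟩

open scoped commutatorElement in
theorem cent_id {A : Type*} [Group A] (hc : commutator A = ⊤) (δ : A →* A)
    (h : ∀ x, ∃ z, (∀ y, z * y = y * z) ∧ δ x = z * x) (x : A) : δ x = x := by
  refine (hc.ge.trans (commutator_le.2 fun x _ y _ => ?_) :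
    ⊤ ≤ δ.eqLocus (MonoidHom.id A)) (mem_top x)
  obtain ⟨z, hz, e⟩ := h x
  obtain ⟨w, hw, e'⟩ := h y
  change δ _ = ⁅x, y⁆
  rw [map_commutatorElement, e, e', commutatorElement_def, commutatorElement_def]
  calc _ = z * (x * w * y * x⁻¹) * z⁻¹ * y⁻¹ * w⁻¹ := by group
    _ = w * (x * y * x⁻¹ * y⁻¹) * w⁻¹ := by rw [hz, ← hw]; group
    _ = _ := by rw [hw]; group

open Classical in
/-- Extension of a homomorphism from a subgroup of index two. -/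
theorem ext2 {A G : Type*} [Group A] [Group G] {C N : Subgroup A} {k : A} (hkC : k ∉ C)
    (hcov : ∀ n ∈ N, n ∉ C → n * k⁻¹ ∈ C) (hn : ∀ x ∈ C, k * x * k⁻¹ ∈ C) (hkk : k * k ∈ C)
    (κ : C →* G) {y : G} (h1 : ∀ x : C, y * κ x * y⁻¹ = κ ⟨_, hn x x.2⟩)
    (h2 : y * y = κ ⟨_, hkk⟩) :
    ∃ β : N →* G, (∀ (x : C) (n : N), (n : A) = x → β n = κ x) ∧
      ∀ (x : C) (n : N), (n : A) = x * k → β n = κ x * y := by
  let f : N → G := fun n => if h : n.1 ∈ C then κ ⟨n, h⟩ else κ ⟨_, hcov n n.2 h⟩ * y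
  have f1 : ∀ (x : C) (n : N), (n : A) = x → f n = κ x := fun x n e => by
    simp only [f, dif_pos (e ▸ x.2 : n.1 ∈ C)]
    exact congrArg κ (Subtype.ext e)
  have f2 : ∀ (x : C) (n : N), (n : A) = x * k → f n = κ x * y := fun x n e => by
    simp only [f, dif_neg (show n.1 ∉ C from fun h => hkC ((C.mul_mem_cancel_left x.2).1 (e ▸ h)))]
    exact congrArg (κ · * y) (Subtype.ext (by simp [e]))
  have cs : ∀ n : N, ∃ x : C, (n : A) = x ∨ (n : A) = x * k := fun n => by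
    by_cases h : n.1 ∈ C
    exacts [⟨⟨n, h⟩, .inl rfl⟩, ⟨⟨_, hcov n n.2 h⟩, .inr (by simp)⟩]
  refine ⟨MonoidHom.mk' f fun a b => ?_, f1, f2⟩
  obtain ⟨x, hx | hx⟩ := cs a <;> obtain ⟨x', hx' | hx'⟩ := cs b
  · rw [f1 x a hx, f1 x' b hx', f1 (x * x') _ (by simp [hx, hx']), map_mul]
  · rw [f1 x a hx, f2 x' b hx', f2 (x * x') _ (by simp [hx, hx', mul_assoc]), map_mul, mul_assoc]
  · rw [f2 x a hx, f1 x' b hx', f2 (x * ⟨_, hn x' x'.2⟩) _ (by simp [hx, hx', mul_assoc]), map_mul,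
      ← h1]
    group
  · rw [f2 x a hx, f2 x' b hx', f1 (x * ⟨_, hn x' x'.2⟩ * ⟨_, hkk⟩) _
      (by simp [hx, hx', mul_assoc]), map_mul, map_mul, ← h1, ← h2]
    group

theorem conj_CC {k x : K} (hk : k ∈ N0) (hx : x ∈ CC) : k * x * k⁻¹ ∈ CC := by
  obtain ⟨h1, h2⟩ := mem_N0.1 (inv_mem hk)
  obtain ⟨h3, h4⟩ := mem_CC.1 hx
  refine mem_CC.2 ⟨(comm_cj k⁻¹).1 ?_, (comm_cj k⁻¹).1 ?_⟩
  · rw [show k⁻¹ * (k * x * k⁻¹) * k⁻¹⁻¹ = x by group]
    rcases h2 with e | e <;> rw [e]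
    exacts [h3, Commute.mul_left h4 h3]
  · rw [show k⁻¹ * (k * x * k⁻¹) * k⁻¹⁻¹ = x by group, conj_eq_of_comm h1.symm, h4]

theorem le_norm : N0 ≤ normalizer (CC : Set K) := fun k hk => mem_normalizer_iff.2 fun x =>
  ⟨conj_CC hk, fun h => by simpa [mul_assoc] using conj_CC (inv_mem hk) h⟩

theorem aut_fix (α : CC ≃* CC) (h2 : α tc = tc) :
    ∃ c : CC, ∀ x, α x = c * x * c⁻¹ := by
  have := finite_K
  let π : CC →* centralizer ({OG.zb} : Set Bm) := (toBm.comp incl).codRestrict _ fun x =>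
    mem_centralizer_singleton.2 (OG.comm_zb_iff.2 (mem_CC.1 x.2).2)
  have hπ : Function.Surjective π := fun b => by
    obtain ⟨x, hx⟩ := toBm_surjective b
    exact ⟨⟨x, x.2, mem_centralizer_singleton.2 (OG.comm_zb_iff.1
      (hx ▸ mem_centralizer_singleton.1 b.2))⟩, Subtype.ext hx⟩
  have e : ∀ x y, π x = π y ↔ x = y ∨ x = tc * y := fun x y =>
    Subtype.ext_iff.trans (toBm_eq_iff.trans (or_congr
      (Subtype.ext_iff (a1 := x) (a2 := y)).symm (Subtype.ext_iff (a1 := x) (a2 := tc * y)).symm))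
  obtain ⟨γ, hγ⟩ := desc hπ α fun x hx => by
    rw [← map_one π, e] at hx ⊢
    rcases hx with rfl | rfl
    exacts [.inl (map_one α), .inr (by rw [map_mul, h2, map_one])]
  obtain ⟨b, hb⟩ := InnB.inn_zb γ
  obtain ⟨c, rfl⟩ := hπ b
  refine ⟨c, fun x => ?_⟩
  have := cent_id commutator_CC ((MulAut.conj c⁻¹).toMonoidHom.comp α.toMonoidHom) (fun x => by
    have h3 : π (c⁻¹ * α x * c⁻¹⁻¹) = π x := by
      rw [map_mul, map_mul, ← hγ, ← hb]; simp [mul_assoc]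
    rcases (e _ _).1 h3 with h4 | h4
    exacts [⟨1, by simp, h4.trans (one_mul x).symm⟩, ⟨tc, tc_comm, h4⟩]) x
  calc _ = c * (c⁻¹ * α x * c⁻¹⁻¹) * c⁻¹ := by group
    _ = _ := congrArg (c * · * c⁻¹) this

end BetAux

open BetAux

theorem aut_CC (α : CC ≃* CC) (_h1 : α zc = zc) (h2 : α tc = zc * tc) :
    ∃ k ∈ N0, k * t0 * k⁻¹ = zz * t0 ∧ ∀ x : CC, (α x : K) = k * x * k⁻¹ := by
  obtain ⟨d, hd⟩ := ActH.exists_pol_one (cls_ne_zero nm_v1) 1
  have he : tq 0 d ∈ N0 := QK_le_N0 ⟨_, _, rfl⟩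
  have e1 : tq 0 d * t0 * (tq 0 d)⁻¹ = zz * t0 := by rw [t0_v1, tq_conj, hd, zz_mul_tq]
  generalize tq 0 d = e at he e1
  let ε : MulAut CC := CC.normalizerMonoidHom ⟨e, le_norm he⟩
  have hε : ∀ x : CC, (ε x : K) = e * x * e⁻¹ := fun x => rfl
  have e3 : ε tc = zc * tc := Subtype.ext e1
  obtain ⟨c, hc⟩ := aut_fix (α.trans ε.symm) (ε.symm_apply_eq.2 (h2.trans e3.symm))
  refine ⟨e * c, mul_mem he (CC_le_N0 c.2), ?_, fun x => ?_⟩
  · rw [← conj_conj, conj_eq_of_comm (mem_CC.1 c.2).1.symm, e1]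
  · rw [show α x = ε (c * x * c⁻¹) from ε.symm_apply_eq.1 (hc x), hε, ← conj_conj]; rfl

namespace BetAux

variable {G : Type*} [Group G] {ι : HH →* G}

theorem tt : ι tH * ι tH = 1 := by
  rw [← map_mul, show tH * tH = 1 from Subtype.ext (DD_mul_self t0_mem), map_one]

theorem zz1 : ι zH * ι zH = 1 := by
  rw [← map_mul, show zH * zH = 1 from Subtype.ext zz_mul_self, map_one]

theorem t_comm (y : HH) : ι tH * ι y = ι y * ι tH := by
  rw [← map_mul, ← map_mul]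
  exact congrArg ι (Subtype.ext (mem_cent.1 y.2).symm)

theorem sq {d : G} (h : IsConj (ι tH) d) : d * d = 1 := by
  obtain ⟨g, rfl⟩ := isConj_iff.1 h
  rw [conj_mul, tt, mul_one, mul_inv_cancel]

theorem pic (h : Ctr ι) {d u : G} (hd : IsConj (ι tH) d) (h2 : u * u = 1) (h1 : u ≠ 1)
    (h3 : IsConj (ι tH) (d * u)) (h4 : ¬ IsConj (ι tH) u) :
    ∃ g, g * ι tH * g⁻¹ = d ∧ g * ι zH * g⁻¹ = u := by
  obtain ⟨g, rfl⟩ := isConj_iff.1 hd
  obtain ⟨u, rfl⟩ : ∃ y, u = g * y * g⁻¹ := ⟨g⁻¹ * u * g, by group⟩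
  rw [conj_mul] at h2 h3
  replace h3 := h3.trans (isConj_iff.2 ⟨g, rfl⟩).symm
  obtain ⟨y, rfl⟩ := h.onto u (Sub.comm_of_sq tt (conj_eq_one_iff.1 h2) (sq h3))
  rw [← map_mul, h.fus] at h3
  have h5 : (y : K) ∉ DD := fun e => h4 (((h.fus y).2 e).trans (isConj_iff.2 ⟨g, rfl⟩))
  obtain ⟨k, k1, k2⟩ := O2_conj_zz t0_mem (mem_O2_of_comm t0_mem h3
    (fun e => h1 (by rw [show y = 1 from Subtype.ext (left_eq_mul.1 e)]; simp))
    (by change _ = t0 * y * t0; rw [mul_assoc, mem_cent.1 y.2]; rfl)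
    (by change t0 * (t0 * y) ∉ _; rwa [DD_mul_cancel t0_mem]))
  lift k to HH using mem_cent.2 (mul_inv_eq_iff_eq_mul.1 k1)
  have k3 : k * y * k⁻¹ = zH := Subtype.ext ((congrArg (fun u => k.1 * u * k.1⁻¹)
    (DD_mul_cancel t0_mem (y : K))).symm.trans k2)
  refine ⟨g * ι k⁻¹, ?_, ?_⟩
  · rw [mul_assoc g, ← t_comm]; group
  · rw [← k3]; simp [mul_assoc]

theorem z_ne (h : Ctr ι) : ι zH ≠ 1 := fun e =>
  zz_ne_one (congrArg Subtype.val (h.inj (e.trans (map_one ι).symm)))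

theorem tr (h : Ctr ι) {d : G} (hd : IsConj (ι tH) d) (h3 : IsConj (ι tH) (ι zH * d)) :
    ∃ g, g * ι tH * g⁻¹ = d ∧ g * ι zH * g⁻¹ = ι zH :=
  pic h hd zz1 (z_ne h) (h3.trans (isConj_iff.2 ⟨d, by group⟩))
    fun e => zz_not_mem_DD ((h.fus zH).1 e)

set_option maxHeartbeats 1000000 in
theorem ex (h : Ctr ι) : ∃ β, Bet {x | IsConj (ι tH) x} (ι zH) β := by
  obtain ⟨g, g1, g2⟩ := tr h (d := ι zH * ι tH) (by rw [← map_mul, h.fus]; exact zt0_mem.1)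
    (by rw [← mul_assoc, zz1, one_mul])
  let κ : CC →* G := ι.comp incl
  have hκ : Function.Injective κ := h.inj.comp (inclusion_injective _)
  have kt : κ tc = ι tH := rfl
  have kz : κ zc = ι zH := rfl
  have ct : ∀ x, ι tH * κ x = κ x * ι tH := fun x => t_comm _
  have cz : ∀ x, ι zH * κ x = κ x * ι zH := fun x => by rw [← kz, ← map_mul, ← map_mul, zc_comm]
  have rng : ∀ x, ι tH * x = x * ι tH → ι zH * x = x * ι zH → x ∈ κ.range := fun x a b => by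
    obtain ⟨y, rfl⟩ := h.onto x a
    rw [← map_mul, ← map_mul] at b
    exact ⟨⟨y, y.2, mem_centralizer_singleton.2 (congrArg Subtype.val (h.inj b))⟩, rfl⟩
  have fus : ∀ x : CC, IsConj (ι tH) (κ x) ↔ (x : K) ∈ DD := fun x => h.fus _
  have t2 : ι tH * ι tH = 1 := tt
  have z2 : ι zH * ι zH = 1 := zz1
  have z1 := z_ne h
  clear_value κ
  generalize ι tH = t at *
  generalize ι zH = z at *
  have sw : ∀ {y : G}, y * t * y⁻¹ = z * t → y * z * y⁻¹ = z → y⁻¹ * t * y⁻¹⁻¹ = z * t :=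
    fun {y} a b => by
      have : y * (z * t) * y⁻¹ = t := by rw [← conj_mul, a, b, ← mul_assoc, z2, one_mul]
      calc _ = y⁻¹ * (y * (z * t) * y⁻¹) * y⁻¹⁻¹ := by rw [this]
        _ = _ := by group
  have nm : ∀ {y : G}, y⁻¹ * t * y⁻¹⁻¹ = z * t → y * z * y⁻¹ = z → ∀ x ∈ κ.range,
      y * x * y⁻¹ ∈ κ.range := by
    rintro y a b _ ⟨x, rfl⟩
    refine rng _ ?_ (by conv_lhs => rw [← b, conj_mul, cz, ← conj_mul, b])
    have : t = y * (z * t) * y⁻¹ := by rw [← a]; group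
    rw [this, conj_mul, conj_mul, (Commute.mul_left (cz x) (ct x)).eq]
  have g3 : g⁻¹ * z * g⁻¹⁻¹ = z := by
    conv_lhs => rw [← g2]
    group
  have hg : g ∈ normalizer (κ.range : Set G) := mem_normalizer_iff.2 fun x =>
    ⟨nm (sw g1 g2) g2 x, fun e => by
      simpa [mul_assoc] using nm (y := g⁻¹) (by simpa using g1) g3 _ e⟩
  obtain ⟨α, hα⟩ : ∃ α : CC ≃* CC, ∀ x, κ (α x) = g * κ x * g⁻¹ :=
    ⟨((MonoidHom.ofInjective hκ).trans (κ.range.normalizerMonoidHom ⟨g, hg⟩)).trans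
      (MonoidHom.ofInjective hκ).symm, fun x => MonoidHom.apply_ofInjective_symm hκ _⟩
  obtain ⟨k, hk, k1, k2⟩ := aut_CC α (hκ (by rw [hα, kz, g2])) (hκ (by rw [hα, map_mul, kt, kz, g1]))
  have kz' := conj_eq_of_comm (mem_N0.1 hk).1.symm
  have hne : zz * t0 ≠ t0 := fun e => zz_ne_one (mul_eq_right.1 e)
  have hkC : k ∉ CC := fun e => hne (k1.symm.trans (conj_eq_of_comm (mem_CC.1 e).1.symm))
  have hcov : ∀ n ∈ N0, n ∉ CC → n * k⁻¹ ∈ CC := fun n hn hn' => by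
    refine mem_CC.2 ⟨?_, (mem_N0.1 (mul_mem hn (inv_mem hk))).1⟩
    have a := (mem_N0.1 hn).2.resolve_left fun e =>
      hn' (mem_CC.2 ⟨(mul_inv_eq_iff_eq_mul.1 e).symm, (mem_N0.1 hn).1⟩)
    have b : n * k⁻¹ * (zz * t0) * (n * k⁻¹)⁻¹ = zz * t0 := by
      conv_lhs => rw [← k1]
      rw [← a]; group
    rw [conj_mul', conj_eq_of_comm (mem_N0.1 (mul_mem hn (inv_mem hk))).1.symm, mul_right_inj,
      mul_inv_eq_iff_eq_mul] at b
    exact b.symm
  have hkk : k * k ∈ CC := by_contra fun e => hkC (by simpa using hcov _ (mul_mem hk hk) e)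
  have a1 : ∀ x : CC, g * κ x * g⁻¹ = κ ⟨_, conj_CC hk x.2⟩ := fun x =>
    (hα x).symm.trans (congrArg κ (Subtype.ext (k2 x)))
  obtain ⟨y, y1, y2, y3, y4⟩ : ∃ y : G, y * t * y⁻¹ = z * t ∧ y * z * y⁻¹ = z ∧
      (∀ x : CC, y * κ x * y⁻¹ = κ ⟨_, conj_CC hk x.2⟩) ∧ y * y = κ ⟨_, hkk⟩ := by
    obtain ⟨m, hm⟩ := rng (g * g) (by
        rw [eq_comm, ← mul_inv_eq_iff_eq_mul, mul_inv_rev, mul_assoc g g, mul_assoc g, ← mul_assoc (g * t),
          g1, ← mul_assoc, ← conj_mul, g1, g2, ← mul_assoc, z2, one_mul])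
      ((Commute.mul_right (mul_inv_eq_iff_eq_mul.1 g2).symm (mul_inv_eq_iff_eq_mul.1 g2).symm).eq)
    have m1 : ∀ x : CC, (m : K) * x * (m : K)⁻¹ = k * k * x * (k * k)⁻¹ := fun x => by
      have : κ (m * x * m⁻¹) = κ (α (α x)) := by rw [hα, hα, map_mul, map_mul, map_inv, hm]; group
      have := congrArg Subtype.val (hκ this)
      rw [k2, k2, conj_conj] at this
      exact this
    have m2 : k * m * k⁻¹ = m := by
      rw [← k2]
      exact congrArg Subtype.val (hκ (by rw [hα, hm]; group))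
    have m3 : k * (m * (k * k)⁻¹) * k⁻¹ = m * (k * k)⁻¹ := by
      conv_rhs => rw [← m2]
      group
    rcases four_z (l := m * (k * k)⁻¹) (mul_mem m.2 (inv_mem hkk)) fun x hx => .inl (by
      rw [← conj_conj, m1 ⟨_, mul_mem (mul_mem (inv_mem hkk) hx)
        (inv_mem (inv_mem hkk))⟩]
      group) with e | e | e | e
    · exact ⟨g, g1, g2, a1, hm ▸ congrArg κ (Subtype.ext (mul_inv_eq_one.1 e))⟩
    · rw [e, k1] at m3
      exact (hne m3).elim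
    · have tz : t * z = z * t := kz ▸ ct zc
      refine ⟨g * t, by rw [← g1]; group, ?_, fun x => ?_, ?_⟩
      · rw [mul_assoc g, tz]
        conv_rhs => rw [← g2]
        group
      · rw [mul_assoc g, ct, ← a1]; group
      · have e1 : m = zc * ⟨_, hkk⟩ := Subtype.ext (mul_inv_eq_iff_eq_mul.1 e)
        calc _ = g * t * g⁻¹ * (g * g * t) := by group
          _ = _ := by
            rw [g1, ← hm, ← ct, mul_assoc, ← mul_assoc t, t2, one_mul, e1, map_mul, kz]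
            generalize κ _ = w
            rw [← mul_assoc, z2, one_mul]
    · rw [e, conj_mul', k1, kz', mul_left_inj] at m3
      exact (hne m3).elim
  obtain ⟨β, b1, b2⟩ := ext2 hkC hcov (fun _ => conj_CC hk) hkk κ y3 y4
  have zt : z * t ≠ t := fun e => z1 (mul_eq_right.1 e)
  have bt : β tN = t := (b1 tc tN rfl).trans kt
  refine ⟨β, (injective_iff_map_eq_one β).2 fun n hn => ?_, (b1 zc zN rfl).trans kz,
    fun x x1 x2 => ?_, fun n hn => ?_⟩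
  · by_cases hc : n.1 ∈ CC
    · rw [b1 ⟨n, hc⟩ n rfl, map_eq_one_iff κ hκ] at hn
      exact Subtype.ext (congrArg Subtype.val hn :)
    · rw [b2 ⟨_, hcov n n.2 hc⟩ n (inv_mul_cancel_right _ _).symm, mul_eq_one_iff_inv_eq, ← map_inv] at hn
      rw [← hn, ← ct, mul_inv_cancel_right] at y1
      exact (zt y1.symm).elim
  · rw [bt] at x2
    rcases x2 with e | e
    · obtain ⟨c, rfl⟩ := rng x (mul_inv_eq_iff_eq_mul.1 e).symm x1
      exact ⟨⟨c, CC_le_N0 c.2⟩, b1 c _ rfl⟩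
    · obtain ⟨c, hc⟩ := rng (x * y⁻¹) (by
          rw [eq_comm, ← mul_inv_eq_iff_eq_mul]
          calc _ = x * (y⁻¹ * t * y⁻¹⁻¹) * x⁻¹ := by group
            _ = t := by
              rw [sw y1 y2, ← conj_mul, e, ← x1, mul_inv_cancel_right, ← mul_assoc, z2, one_mul])
        (Commute.mul_right x1 (show Commute z y from (mul_inv_eq_iff_eq_mul.1 y2).symm).inv_right).eq
      exact ⟨⟨c * k, mul_mem (CC_le_N0 c.2) hk⟩, (b2 c _ rfl).trans (by rw [hc]; simp)⟩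
  · rw [b1 ⟨n, mem_CC.2 ⟨hn, (mem_N0.1 n.2).1⟩⟩ n rfl]
    exact fus _

end BetAux

theorem Ctr.fam {G : Type*} [Group G] {ι : HH →* G} (h : Ctr ι) :
    Fam {x | IsConj (ι tH) x} (ι zH) := by
  refine ⟨fun g d hd => IsConj.trans hd (isConj_iff.2 ⟨g, rfl⟩), fun d hd => BetAux.sq hd, ex h,
    fun d h1 h2 d' h3 h4 => ?_, fun d h1 u h2 h3 h4 h5 => ?_⟩
  · obtain ⟨g, g1, g2⟩ := tr h h1 h2
    obtain ⟨g', g3, g4⟩ := tr h h3 h4
    refine ⟨g' * g⁻¹, ?_, by rw [← g1, ← g3]; group⟩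
    exact (Commute.mul_right (mul_inv_eq_iff_eq_mul.1 g4).symm
      (show Commute _ g from (mul_inv_eq_iff_eq_mul.1 g2).symm).inv_right).eq
  · obtain ⟨g, -, g2⟩ := pic h h1 h2 h3 h4 h5
    exact isConj_iff.2 ⟨g, g2⟩

end Cfsg.Agent.Gr7
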