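import Mathlib
import Cfsg.Agent.Gr7.Defs
import Cfsg.Agent.Gr.Fix

/-! A character sum over the short classes. -/

set_option autoImplicit false

namespace Cfsg.Agent.Gr7

open Subgroup Cfsg.Agent.Spor Cfsg.Agent.Spor.Leech Cfsg.Agent.Gr Cfsg.Agent.Gr6B

/-- The trace of `tq e c` on the part spanned by the short classes. -/
noncomputable def chi (c : LL) : ℝ := ∑ s : Sh, sgn (pol c s)

theorem chi_smul (h : Co0) (v : Λ) : chi (cls (h • v)) = chi (cls v) := by
  rw [chi, ← Equiv.sum_comp (ActH.csmS h), ← csm_cls]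
  simp only [ActH.csmS_coe, pol_csm, chi]

theorem chi_short {c : LL} (hc : c ∈ ShS) : chi c = 4072 := by
  obtain ⟨v, hv, rfl⟩ := mem_ShS.1 hc
  obtain ⟨g, hg⟩ := trans32 hv nm_v1
  rw [← chi_smul g, hg, ← FixH.sum_sgn_pol, c0, clB_eq_cls]
  rfl

theorem chi_om : chi (om, 0) = -24 := by
  have := sum_Sh fun c => 1 - sgn (pol (om, 0) c)
  rw [Finset.sum_congr rfl fun o _ => Finset.sum_congr rfl fun δ h => by rw [pol_om, clT_par h],
    Finset.sum_sub_distrib, Finset.sum_const, Finset.card_univ, Fintype.card_coe, card_ShS, ← chi] at this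
  simp only [pol_om, clB_par, clC_par, clX_par, sgn_zero, sgn_one, sub_self, add_zero, Finset.sum_const,
    Finset.card_univ, card_Cd, smul_zero, zero_add, Fintype.card_option, ZMod.card, nsmul_eq_mul,
    smul_eq_mul] at this
  push_cast at this
  linarith

theorem chi_four {c : LL} (h0 : c ≠ 0) (hq : qL c = 0) (hc : c ∉ ShS) : chi c = -24 := by
  obtain ⟨x, rfl⟩ := cls_surjective c
  obtain ⟨y, hy, k⟩ := MT.exists_short' x
  rw [Gr.cls_eq_iff.2 hy] at h0 hq hc ⊢
  rcases k with rfl | k | k | k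
  · exact (h0 cls_zero).elim
  · exact (hc (cls_mem_ShS k)).elim
  · rw [qL_cls, qd_eq (n := 3) k] at hq
    exact absurd hq (by decide)
  · obtain ⟨g, hg⟩ := exists_smul_eq_e8 k none
    rw [← chi_smul g, hg, cls_e8, chi_om]

theorem chi_three {c d : LL} (hc : qL c = 1) (hd : qL d = 1) : chi c = chi d := by
  have k : ∀ c, qL c = 1 → ∃ y, nm y = 48 ∧ cls y = c := fun c h => by
    obtain ⟨x, rfl⟩ := cls_surjective c
    obtain ⟨y, hy, k⟩ := MT.exists_short' x
    rw [Gr.cls_eq_iff.2 hy] at h ⊢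
    rw [qL_cls] at h
    rcases k with rfl | k | k | k
    · exact absurd (h.symm.trans (qd_eq (n := 0) rfl)) (by decide)
    · exact absurd (h.symm.trans (qd_eq (n := 2) k)) (by decide)
    · exact ⟨y, k, rfl⟩
    · exact absurd (h.symm.trans (qd_eq (n := 4) k)) (by decide)
  obtain ⟨x, hx, rfl⟩ := k c hc
  obtain ⟨y, hy, rfl⟩ := k d hd
  obtain ⟨g, rfl⟩ := trans48 hx hy
  exact (chi_smul g x).symm

theorem chi_sum (a b c : LL) : chi c + chi (c + a) + chi (c + b) + chi (c + a + b) =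
    4 * ∑ d ∈ ShS with pol d a = 0 ∧ pol d b = 0, sgn (pol c d) := by
  rw [Finset.sum_filter, ← Finset.sum_coe_sort, Finset.mul_sum]
  simp only [chi, ← Finset.sum_add_distrib, pol_add_left, sgn_add, pol_comm a, pol_comm b]
  refine Finset.sum_congr rfl fun s _ => ?_
  rcases ActH.z2_cases (pol s a) with e | e <;> rcases ActH.z2_cases (pol s b) with f | f <;>
    simp [e, f, sgn_zero, sgn_one]
  ring

theorem chi_count (m : LL ≃+ LL) (hp : ∀ a b, pol (m a) (m b) = pol a b) (hq : ∀ a, qL (m a) = qL a)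
    (h1 : m (cls v1) = cls v2) (h2 : m (cls v2) = cls v1)
    (hs : ∀ d, pol d (cls v1) = 0 → pol d (cls v2) = 0 → (m d ∈ ShS ↔ d ∈ ShS)) {c : LL} (hc : c ∈ ShS)
    (c1 : pol c (cls v1) = 0) (c2 : pol c (cls v2) = 1) :
    (m c ∈ ShS ∨ m c + cls v2 ∈ ShS) ∧ (c + cls v1 ∈ ShS → m c ∈ ShS) := by
  have e := chi_sum (cls v1) (cls v2) c
  rw [Finset.sum_equiv m.toEquiv (t := ShS.filter fun d => pol d (cls v2) = 0 ∧ pol d (cls v1) = 0)
    (g := fun d => sgn (pol (m c) d)) (fun d => by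
      simp only [Finset.mem_filter, AddEquiv.toEquiv_eq_coe, EquivLike.coe_coe]
      rw [show pol (m d) (cls v2) = _ from h1 ▸ hp d _, show pol (m d) (cls v1) = _ from h2 ▸ hp d _]
      exact and_congr_left fun k => (hs d k.1 k.2).symm) (fun d _ => congrArg sgn (hp c d).symm),
    ← chi_sum] at e
  have q1 := qL_of_mem (cls_mem_ShS nm_v1)
  have q2 := qL_of_mem (cls_mem_ShS nm_v2)
  have p12 := (pol_comm _ _).trans p21
  have q0 := qL_of_mem hc
  have m0 := (hq c).trans q0
  have m1 : pol (m c) (cls v1) = 1 := by rw [← h2, hp, c2]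
  have m2 : pol (m c) (cls v2) = 0 := by rw [← h1, hp, c1]
  have nz : ∀ {x a : LL}, pol x a = 1 → x ≠ 0 := fun k e => by
    rw [e, pol_zero_left] at k; exact zero_ne_one k
  rw [chi_short hc, chi_three (c := c + cls v2) (d := m c + cls v1) (by simp [qL_add, q0, q2, c2])
    (by simp [qL_add, m0, q1, m1]), chi_three (c := c + _ + _) (d := m c + cls v2 + cls v1)
    (by simp [qL_add, pol_add_left, q0, q1, q2, c1, c2, p12])
    (by simp [qL_add, pol_add_left, m0, q1, q2, m1, m2, p21])] at e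
  have a1 := chi_four (nz m1) m0
  have a2 := chi_four (c := m c + cls v2) (nz (a := cls v1) (by simp [pol_add_left, m1, p21]))
    (by simp [qL_add, m0, q2, m2])
  have a3 := chi_four (c := c + cls v1) (nz (a := cls v2) (by simp [pol_add_left, c2, p12]))
    (by simp [qL_add, q0, q1, c1])
  have le : ∀ {x}, (x ∉ ShS → chi x = -24) → -24 ≤ chi x ∧ chi x ≤ 4072 := fun {x} k => by
    by_cases h : x ∈ ShS
    · rw [chi_short h]; norm_num
    · rw [k h]; norm_num
  refine ⟨not_not.1 fun n => ?_, fun k => not_not.1 fun n => ?_⟩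
  · rw [a1 fun k => n (.inl k), a2 fun k => n (.inr k)] at e
    linarith [(le a3).1]
  · rw [a1 n, chi_short k] at e
    linarith [(le a2).2]

end Cfsg.Agent.Gr7
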