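import Mathlib
import Cfsg.Agent.Gr7.Faith
import Cfsg.Agent.Gr.GE1
import Cfsg.Agent.Gr.GOut

/-! Orbits of `CC` on `QK`. -/

set_option autoImplicit false

namespace Cfsg.Agent.Gr7

open Subgroup Cfsg.Agent.Spor Cfsg.Agent.Spor.Leech Cfsg.Agent.Gr Cfsg.Agent.Gr6B

namespace TrH

theorem two_conj {w w' : Λ} (hw : nm w = 32) (hw' : nm w' = 32) (h : ip v1 w = ip v1 w')
    (h' : |ip v1 w| ≤ 16) (e f : ZMod 2) : ∃ c ∈ CC, c * tq e (cls w) * c⁻¹ = tq f (cls w') := by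
  obtain ⟨g, g1, g2⟩ := trans_pair nm_v1 hw nm_v1 hw' h
  obtain ⟨x, -, hx⟩ := PP.exists_sg_eq g1 (cls_ne_zero hw) (cls_ne_of_ip nm_v1 hw h') e f
  exact ⟨x, x.2, by rw [hx, csm_cls, g2]⟩

theorem t0_comm_iff {e : ZMod 2} {c : LL} : t0 * tq e c = tq e c * t0 ↔ pol (cls v1) c = 0 := by
  rw [t0_v1, tq_comm_iff]

theorem t0_mul_mem {e : ZMod 2} {c : LL} : t0 * tq e c ∈ DD ↔ cls v1 + c ∈ ShS := by
  rw [t0_v1, tq_mul, tq_mem_DD_iff]

theorem exists_eight {k : K} (h1 : k ∈ DD) (h2 : k ∈ QK) (h3 : t0 * k ≠ k * t0) :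
    ∃ e w, nm w = 32 ∧ ip v1 w = 8 ∧ k = tq e (cls w) := by
  obtain ⟨e, w, hw, rfl⟩ := exists_tq h1 h2
  rw [Ne, t0_comm_iff, pol_cls_iff] at h3
  rcases ip_cases32 nm_v1 hw with h | h | h | h | h | h | h
  · exact (h3 (by rw [h, ip_self, nm_v1]; norm_num)).elim
  · exact (h3 (by rw [h, ip_neg_right, ip_self, nm_v1]; norm_num)).elim
  · exact (h3 (by rw [h])).elim
  · exact ⟨e, w, hw, h, rfl⟩
  · exact (h3 (by rw [h]; norm_num)).elim
  · exact ⟨e, -w, by rw [nm_neg, hw], by rw [ip_neg_right, h]; rfl, by rw [cls_neg]⟩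
  · exact (h3 (by rw [h]; norm_num)).elim

theorem not_short {x : Λ} (hx : nm x = 64) : cls x ∉ ShS := fun h => by
  obtain ⟨y, hy, e⟩ := mem_ShS.1 h
  rcases (cls_eq_iff.1 e.symm).eq_or_neg (by omega) (by omega) with k | k
  · rw [k] at hx; omega
  · rw [k, nm_neg] at hx; omega

/-- An odd short vector and the standard frame. -/
theorem odd_std {v : Λ} (hv : nm v = 32) {p : GolayPt} (h : ¬ (16 : ℤ) ∣ ip v (e8 p)) :
    ∃ w : Λ, nm w = 32 ∧ ip v w = 16 ∧ (16 : ℤ) ∣ ip (e8 p) w ∧ cls (e8 p) + cls w ∉ ShS := by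
  rw [ip_e8] at h
  have key : ∀ a : ℤ, |a| = 4 ∨ |a| = 2 ∨ |a| = 0 → (16 : ℤ) ∣ 8 * a := fun a k => by
    rcases abs_cases a with m | m <;> omega
  rcases shape32 v.2 hv with ⟨i, j, -, h1, h2, h3⟩ | ⟨o, -, -, h1⟩ | ⟨c, q, hc, h1, h2⟩
  · refine (h (key _ ?_)).elim
    by_cases a : p = i
    · exact .inl (a ▸ h1)
    by_cases b : p = j
    · exact .inl (b ▸ h2)
    · exact .inr (.inr (by rw [h3 p a b, abs_zero]))
  · refine (h (key _ (.inr ?_))).elim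
    have := h1 p
    split_ifs at this
    exacts [.inl this, .inr this]
  · have e := sign_eq_odd1 hc (p := q) (a := -3) rfl (h1.trans (by norm_num)) h2
    obtain ⟨o, ho, h8, -, hd⟩ := exists_octad_sup_disj (a := ∅) (b := {q}) (by simp) (by simp)
    have hq : q ∉ o := by simpa using hd
    have n2 : nm (two o ho) = 32 := by rw [nm_two, h8]; rfl
    refine ⟨sign c hc.1 • two o ho, by rw [nm_smul, n2], ?_, ?_, ?_⟩
    · rw [← ip_smul (sign c hc.1), e, sign_smul_sign, ip_two,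
        Finset.sum_congr rfl (g := fun _ => 1) fun i hi => by
          rw [odd1_apply, if_neg (by rintro rfl; exact hq hi)]]
      simp [h8]
    · rw [e8_ip, Leech.sign_apply, two_apply]
      split_ifs <;> norm_num
    · obtain ⟨r, hr⟩ : o.Nonempty := Finset.card_pos.1 (by omega)
      rw [cls_e8, ← cls_e8 r, ← cls_sub]
      by_cases a : r ∈ c
      · rw [cls_sub, ← cls_add]
        refine not_short ?_
        rw [nm_add, nm_e8, nm_smul, n2, e8_ip, Leech.sign_apply, two_apply, if_pos a, if_pos hr]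
        norm_num
      · refine not_short ?_
        rw [nm_sub, nm_e8, nm_smul, n2, e8_ip, Leech.sign_apply, two_apply, if_neg a, if_pos hr]
        norm_num

theorem exists_ac {k : K} (h1 : k ∈ N0) : ∃ h : Co0, h • v1 = v1 ∧ IB.Ac k h := by
  obtain ⟨b, a⟩ := mem_N0.1 h1
  obtain ⟨γ, rfl⟩ := exists_act_of_comm b
  rw [t0_v1, act_conj, CL.eqv_tq, csm_cls] at a
  rcases (cls_eq_iff_short (by rw [nm_smul, nm_v1]) nm_v1).1 a with m | m
  · exact ⟨γ.1.2, m, IB.ac_act (.inl rfl)⟩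
  · refine ⟨negOne * γ.1.2, by rw [mul_smul, m, negOne_smul, neg_neg], IB.ac_act (.inr ?_)⟩
    rw [← mul_assoc, negOne_mul_self, one_mul]

theorem ac_sq {k : K} {h : Co0} (a : IB.Ac k h) (h1 : h • v1 = v1) (h2 : k * k = 1) : h * h = 1 := by
  refine (eq_of_csm fun c => ?_).resolve_right fun e => PP.negOne_ne ?_
  · obtain ⟨f, e1⟩ := a 0 c
    obtain ⟨f', e2⟩ := a f (csm h c)
    rw [← e1, conj_conj, h2, one_mul, inv_one, mul_one, ← csm_mul, tq_inj] at e2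
    exact e2.2.symm
  · rw [← e, mul_smul, h1, h1]

end TrH

open TrH

theorem trans_s {k : K} (h1 : k ∈ DD) (h2 : k ∈ QK) (h3 : t0 * k ∈ DD) : ∃ c ∈ CC, c * s0 * c⁻¹ = k := by
  obtain ⟨e, w, hw, rfl⟩ := exists_tq h1 h2
  obtain ⟨w', a, b, m⟩ := GenH.exists_sign hw ((add_mem_ShS nm_v1 hw).1 (t0_mul_mem.1 h3))
  rw [m, s0_v2]
  exact two_conj nm_v2 a (ip_v1_v2.trans b.symm) (by rw [ip_v1_v2]; norm_num) _ _

theorem trans_odd {k k' : K} (h1 : k ∈ DD) (h2 : k ∈ QK) (h3 : t0 * k ≠ k * t0) (h1' : k' ∈ DD) (h2' : k' ∈ QK)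
    (h3' : t0 * k' ≠ k' * t0) : ∃ c ∈ CC, c * k * c⁻¹ = k' := by
  obtain ⟨e, w, a, b, rfl⟩ := exists_eight h1 h2 h3
  obtain ⟨f, w', a', b', rfl⟩ := exists_eight h1' h2' h3'
  exact two_conj a a' (b.trans b'.symm) (by rw [b]; norm_num) _ _

theorem exists_s_four {k : K} (h1 : k ∉ DD) (h2 : k ∈ QK) (h3 : t0 * k ≠ k * t0) (h4 : k * k = 1) :
    ∃ s ∈ DD, s ∈ QK ∧ t0 * s ∈ DD ∧ k * s = s * k ∧ k * s ∉ DD := by
  obtain ⟨e, c, rfl⟩ := h2
  obtain ⟨y, rfl⟩ := cls_surjective c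
  obtain ⟨x, m, hx⟩ := MT.exists_short' y
  rw [cls_eq_iff.2 m] at h1 h3 h4 ⊢
  rw [Ne, t0_comm_iff] at h3
  rcases hx with hx | hx | hx | hx
  · exact (h3 (by rw [hx, cls_zero, pol_zero_right])).elim
  · exact (h1 (tq_cls_mem _ hx)).elim
  · rw [tq_mul_self, qL_cls, qd_eq (n := 3) (by rw [hx]; rfl), ← tq_zero, tq_inj] at h4
    exact absurd h4.1 (by decide)
  · obtain ⟨g, hg⟩ := exists_smul_eq_e8 hx none
    obtain ⟨w, a, b, d, f⟩ := odd_std (v := g • v1) (p := none) (by rw [nm_smul, nm_v1])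
      (by rwa [← hg, ip_smul, ← pol_cls_iff])
    obtain ⟨w, rfl⟩ : ∃ u, w = g • u := ⟨g⁻¹ • w, (smul_inv_smul _ _).symm⟩
    rw [nm_smul] at a
    rw [ip_smul] at b
    rw [← hg, ip_smul, ← pol_cls_iff] at d
    rw [← hg, ← csm_cls, ← csm_cls, ← csm_add, csm_mem] at f
    refine ⟨tq 0 (cls w), tq_cls_mem _ a, ⟨_, _, rfl⟩, t0_mul_mem.2 ((add_mem_ShS nm_v1 a).2 (.inl b)),
      tq_comm_iff.2 d, ?_⟩
    rwa [tq_mul, tq_mem_DD_iff]

theorem exists_s_inv {k : K} (h1 : k ∈ N0) (h2 : k * k = 1) (h3 : t0 * k ≠ k * t0) :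
    ∃ s ∈ DD, s ∈ QK ∧ t0 * s ∈ DD ∧ k * s = s * k := by
  obtain ⟨h, hv, a⟩ := exists_ac h1
  obtain ⟨w, hw, b, hf⟩ := exists_fix16 (ac_sq a hv h2) nm_v1 hv
  obtain ⟨f, e⟩ := a 0 (cls w)
  rw [csm_cls, hf] at e
  have hq : tq 0 (cls w) ∈ DD := tq_cls_mem _ hw
  have hs : t0 * tq 0 (cls w) ∈ DD := t0_mul_mem.2 ((add_mem_ShS nm_v1 hw).2 (.inl b))
  rcases ActH.z2_cases f with rfl | rfl
  · exact ⟨_, hq, ⟨_, _, rfl⟩, hs, mul_inv_eq_iff_eq_mul.1 e⟩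
  · refine ⟨_, hs, mul_mem t0_mem_QK ⟨0, cls w, rfl⟩,
      (congrArg (· ∈ DD) (DD_mul_cancel t0_mem (tq 0 (cls w)))).mpr hq, ?_⟩
    have e1 : k * t0 * k⁻¹ = zz * t0 :=
      (mem_N0.1 h1).2.resolve_left fun m => h3 (mul_inv_eq_iff_eq_mul.1 m).symm
    refine mul_inv_eq_iff_eq_mul.1 ?_
    calc _ = k * t0 * k⁻¹ * (k * tq 0 (cls w) * k⁻¹) := conj_mul' _ _ _
      _ = zz * t0 * tq 1 (cls w) := congrArg₂ (· * ·) e1 e
      _ = t0 * zz * tq 1 (cls w) := congrArg (· * tq 1 (cls w)) zz_comm_t0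
      _ = t0 * (zz * tq 1 (cls w)) := mul_assoc _ _ _
      _ = _ := congrArg (t0 * ·) (zz_mul_tq 1 _)

theorem exists_odd_short : ∃ c ∈ ShS, c + cls v1 ∈ ShS ∧ pol c (cls v1) = 0 ∧ pol c (cls v2) = 1 := by
  obtain ⟨d, hd, h⟩ := TriV.exists_d (some 1) (by simp)
  have h0 : none ∉ d := fun m => p02 ((h none (by simp)).1 m)
  have h1 : some 0 ∉ d := fun m => p12 ((h (some 0) (by simp)).1 m)
  have h2 : some 1 ∈ d := (h (some 1) (by simp)).2 rfl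
  have n : nm (sign d hd • odd1 (some 0) (-3) rfl) = 32 := by rw [nm_smul, nm_odd1]; rfl
  have i1 : ip (sign d hd • odd1 (some 0) (-3) rfl) v1 = 16 := by
    rw [TriV.ip_v1, Leech.sign_apply, Leech.sign_apply, if_neg h0, if_neg h1, odd1_apply, odd1_apply, if_neg p01, if_pos rfl]
    rfl
  have i2 : ip (sign d hd • odd1 (some 0) (-3) rfl) v2 = 8 := by
    rw [TriV.ip_v2, Leech.sign_apply, Leech.sign_apply, if_pos h2, if_neg h1, odd1_apply, odd1_apply, if_neg p12.symm,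
      if_pos rfl]
    rfl
  refine ⟨_, cls_mem_ShS n, (add_mem_ShS n nm_v1).2 (.inl i1), pol_cls_iff.2 (by rw [i1]), ?_⟩
  refine (ActH.z2_cases _).resolve_left fun e => ?_
  rw [pol_cls_iff, i2] at e
  omega

theorem exists_inv_CC : ∃ k ∈ CC, k * k = 1 ∧ k ∉ QK := by
  obtain ⟨c, hc, h, -⟩ := GE.exists_opp
  have := GE.mu_card t0_mem s0_mem y3_mem_NN hc h
  rw [← ncard_eq_nb] at this
  obtain ⟨u, hu⟩ := Set.nonempty_of_ncard_ne_zero (by rw [this]; norm_num : (GE.Mu t0 s0 y3 c).ncard ≠ 0)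
  have k := GE.mu_SS hu
  obtain ⟨a, -, b⟩ := mem_SS.1 (Et_subset k)
  exact ⟨u, mem_CC.2 ⟨a.symm, b.symm⟩, DD_mul_self k.1.1, Et_not_QK k⟩

end Cfsg.Agent.Gr7
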