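import Mathlib
import Cfsg.Agent.Gr7.Faith

/-! Involutions in the centraliser of `zz`. -/

set_option autoImplicit false

namespace Cfsg.Agent.Gr7

open Subgroup Matrix Cfsg.Agent.Spor Cfsg.Agent.Spor.Leech Cfsg.Agent.Gr Cfsg.Agent.Gr6B

theorem neg_sq {h : Co0} (h2 : h * h = negOne) :
    (∀ c ∈ ShS, csm h c ≠ c) ∧ (∀ x, pol x (csm h x) = 0) ∧ (∀ c, csm h c = c ↔ ∃ x, c = x + csm h x) ∧
      Nat.card {c : LL // csm h c = c} = 2 ^ 12 := by
  have hh : ∀ v : Λ, h • h • v = -v := fun v => by rw [← mul_smul, h2, negOne_smul]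
  have i0 : ∀ v : Λ, ip v (h • v) = 0 := fun v => by
    have := ip_smul h v (h • v)
    rw [hh, ip_neg_right, ip_comm] at this
    omega
  have k : ∀ c, csm h c = c ↔ ∃ x, c = x + csm h x := fun c => by
    refine ⟨fun e => ?_, ?_⟩
    · obtain ⟨v, rfl⟩ := cls_surjective c
      obtain ⟨w, hw⟩ := Gr.cls_eq_iff.1 ((csm_cls h v).symm.trans e)
      have e2 := congrArg (h • ·) hw
      simp only [smul_sub, hh, two_nsmul, smul_add] at e2
      refine ⟨cls w, ?_⟩
      rw [csm_cls, ← cls_add, ← cls_neg v]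
      refine congrArg cls (smul_right_injective Λ (two_ne_zero (α := ℕ)) ?_)
      simp only [two_nsmul] at hw ⊢
      rw [add_add_add_comm, ← hw, ← e2]
      abel
    · rintro ⟨x, rfl⟩
      rw [csm_add, ← csm_mul, h2, csm_negOne, add_comm]
  refine ⟨fun c hc e => ?_, fun x => ?_, k, ?_⟩
  · obtain ⟨v, hv, rfl⟩ := mem_ShS.1 hc
    have := i0 v
    rcases (cls_eq_iff_short ((nm_smul h v).trans hv) hv).1 ((csm_cls h v).symm.trans e) with e | e <;>
      simp only [e, ip_neg_right, ip_self, hv] at this <;> omega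
  · obtain ⟨v, rfl⟩ := cls_surjective x
    rw [csm_cls, pol_cls_iff, i0]
    exact dvd_zero _
  · let φ : LL →+ LL := AddMonoidHom.mk' (fun x => x + csm h x) fun a b => by rw [csm_add]; abel
    have e1 : ∀ c, c ∈ φ.ker ↔ csm h c = c := fun c =>
      ⟨fun e => (ll_eq_of_add e).symm, fun e => (congrArg (c + ·) e).trans (Gr.ll_add_self c)⟩
    have e2 : φ.range = φ.ker := AddSubgroup.ext fun c => by
      rw [e1, k]; exact exists_congr fun _ => eq_comm
    have := φ.ker.card_mul_index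
    rw [AddSubgroup.index_ker, e2, Nat.card_congr (Equiv.subtypeEquivRight e1), Nat.card_prod,
      Nat.card_eq_fintype_card (α := Cd), card_Cd] at this
    exact Nat.mul_self_inj.1 this

theorem trace_sq (γ : Ct) :
    γ.1.1.1.trace ^ 2 = ∑ c : LL, if csm γ.1.2 c = c then sgn (eps γ c) else 0 := by
  obtain ⟨t, ht⟩ := ActH.schur (M := ∑ c : LL, (rho c)ᵀ * γ.1.1.1 * rho c) fun a => by
    rw [Matrix.mul_sum, Matrix.sum_mul, ← Equiv.sum_comp (Equiv.addRight a)]
    refine Finset.sum_congr rfl fun c _ => ?_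
    rw [← ActH.sgn_smul_smul (a.2 ⬝ᵥ (c + a).1) (_ * _ * rho a), Equiv.coe_addRight]
    simp only [Matrix.mul_assoc]
    rw [← Matrix.mul_assoc (rho a)ᵀ, ← transpose_mul, rho_mul, add_assoc, Gr.ll_add_self, add_zero,
      transpose_smul]
    simp only [Matrix.smul_mul, Matrix.mul_smul, ActH.sgn_smul_smul]
  have e1 := congrArg trace ht
  have e2 := congrArg (fun M => (M * γ.1.1.1ᵀ).trace) ht
  simp only [trace_sum, trace_smul, trace_one, card_Cd, Matrix.sum_mul, Matrix.smul_mul, one_mul,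
    trace_transpose, smul_eq_mul] at e1 e2
  rw [Finset.sum_congr rfl fun c _ => by
    rw [trace_mul_cycle, rho_mul_transpose, one_mul], Finset.sum_const, Finset.card_univ,
    Fintype.card_prod, card_Cd] at e1
  rw [Finset.sum_congr rfl (g := fun c => 4096 * if csm γ.1.2 c = c then sgn (eps γ c) else 0) fun c _ => by
    rw [Matrix.mul_assoc, Matrix.mul_assoc, ← Matrix.mul_assoc _ (rho c), ActH.conj_rho, Gr.rho_transpose,
      Matrix.smul_mul, Matrix.mul_smul, trace_smul, trace_smul, ActH.trace_rho_mul]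
    by_cases e : csm γ.1.2 c = c
    · rw [if_pos e, if_pos e.symm, smul_comm, ← smul_eq_mul (sgn _) 4096, ActH.sgn_smul_smul, smul_eq_mul,
        mul_comm]
    · rw [if_neg e, if_neg (Ne.symm e), smul_zero, smul_zero, mul_zero], ← Finset.mul_sum] at e2
  simp only [nsmul_eq_mul, Nat.cast_mul, Nat.cast_ofNat] at e1 e2
  linear_combination γ.1.1.1.trace / (4096 * 4096) * e1 - e2 / 4096

theorem sq_of_inv {γ : Ct} (h : act γ * act γ = 1) : γ.1.2 * γ.1.2 = 1 := by
  refine (act_mem_QK.1 (show act (γ * γ) ∈ QK by rw [map_mul, h]; exact one_mem _)).resolve_right fun h2 => ?_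
  rw [ActH.Ct_mul_snd] at h2
  obtain ⟨e, c, k⟩ := ActH.eq_gq (γ := ActH.gn * (γ * γ))
    (by rw [ActH.Ct_mul_snd, ActH.Ct_mul_snd, h2, ActH.gn_snd, negOne_mul_self])
  obtain ⟨rfl, rfl⟩ := (tq_inj (e := e) (a := c) (f := 1) (b := 0)).1 (by
    rw [tq, ← k, map_mul, map_mul, h, mul_one, ActH.act_gn, zz])
  have gg : γ.1.1.1 * γ.1.1.1 = -1 := by
    simpa [ActH.Ct_mul_fst, ActH.gn_fst, ActH.gq_fst, sgn_one, rho_zero] using congrArg (·.1.1.1) k
  have t0 : γ.1.1.1.trace = 0 := by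
    have : γ.1.1.1ᵀ = -γ.1.1.1 := by
      rw [← neg_eq_iff_eq_neg, ← mul_neg_one, ← gg, ← mul_assoc, ActH.transpose_mul_uni, one_mul]
    have := congrArg trace this
    rw [trace_transpose, trace_neg] at this
    linear_combination this / 2
  obtain ⟨-, n2, n3, -⟩ := neg_sq h2
  have e0 : ∀ c, csm γ.1.2 c = c → eps γ c = 0 := fun c hc => by
    obtain ⟨x, rfl⟩ := (n3 c).1 hc
    have a1 := eps_add γ x (csm γ.1.2 x)
    have a2 := (ActH.eps_mul γ γ x).symm.trans (ActH.eps_eq (e := 0) (by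
      rw [ActH.Ct_mul_fst, ActH.Ct_mul_snd, gg, h2, csm_negOne, sgn_zero, one_smul, neg_one_mul, mul_neg_one]))
    have a3 := n2 x
    rw [← csm_mul, h2, csm_negOne, add_comm (eps γ x), a2] at a1
    rw [Gr.pol] at a3
    rw [zero_add, ← add_right_inj (x.2 ⬝ᵥ (csm γ.1.2 x).1), add_left_comm, a3, CharTwo.add_self_eq_zero] at a1
    exact (add_zero _).symm.trans a1
  have := trace_sq γ
  rw [t0, zero_pow two_ne_zero] at this
  refine (Finset.sum_pos' (fun c _ => ?_) ⟨0, Finset.mem_univ _, ?_⟩).ne this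
  · split_ifs with e
    · rw [e0 c e, sgn_zero]; exact zero_le_one
    · exact le_rfl
  · rw [if_pos (csm_zero _), ActH.eps_zero, sgn_zero]; exact zero_lt_one

theorem exists_fixed {k x y : K} (hz : zz * k = k * zz) (h2 : k * k = 1) (hx : x ∈ QK) (hy : y ∈ QK) :
    ∃ d ∈ DD, d ∈ QK ∧ d * x = x * d ∧ d * y = y * d ∧ Eqv zz (k * d * k⁻¹) d := by
  obtain ⟨γ, rfl⟩ := exists_act_of_comm hz
  obtain ⟨e, a, rfl⟩ := hx
  obtain ⟨f, b, rfl⟩ := hy
  obtain ⟨c, hc, h1, ha, hb⟩ := exists_fix_perp (sq_of_inv h2) a b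
  exact ⟨tq 0 c, tq_mem_DD_iff.2 hc, ⟨_, _, rfl⟩, tq_comm_iff.2 ha, tq_comm_iff.2 hb,
    by rw [act_conj]; exact CL.eqv_tq.2 h1⟩

end Cfsg.Agent.Gr7
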