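import Mathlib
import Cfsg.Agent.Gr7.Defs

/-! An isometry of `Λ / 2Λ` that preserves the short classes comes from `Co₀`. -/

set_option autoImplicit false

namespace Cfsg.Agent.Gr7

open Subgroup Cfsg.Agent.Spor Cfsg.Agent.Spor.Leech Cfsg.Agent.Gr Cfsg.Agent.Gr6B

namespace Lf

theorem ip44 {i j : GolayPt} {a b : GolayPt} (s t s' t' : ℤˣ) : ip (v44 a b s t) (v44 i j s' t') =
    4 * (s' * ((if i = a then 4 * (s : ℤ) else 0) + if i = b then 4 * (t : ℤ) else 0) +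
      t' * ((if j = a then 4 * (s : ℤ) else 0) + if j = b then 4 * (t : ℤ) else 0)) := by
  rw [ip_v44, v44_apply, v44_apply]

theorem add44 (i j : GolayPt) : v44 i j 1 1 + v44 i j 1 (-1) = e8 i ∧ v44 i j 1 1 - v44 i j 1 (-1) = e8 j := by
  constructor <;> ext k <;>
    simp only [AddSubgroup.coe_add, AddSubgroup.coe_sub, Pi.add_apply, Pi.sub_apply, v44_apply, e8_apply] <;>
    split_ifs <;> simp

theorem eight_mem {B : AddSubgroup Λ} {y : Λ} (hy : nm y = 32) (h : ∀ v, nm v = 32 → ip y v = 16 → v ∈ B) (w : Λ) :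
    (8 : ℤ) • w ∈ B := by
  obtain ⟨g, rfl⟩ := trans32 (nm_v44 (i := none) (j := some 0) (by decide) 1 1) hy
  have k : ∀ i j : GolayPt, i = none ∨ i = some 0 → j ≠ none → j ≠ some 0 → g • e8 i ∈ B ∧ g • e8 j ∈ B :=
    fun i j hi h1 h2 => by
      have h3 : ∀ s, g • v44 i j 1 s ∈ B := fun s => h _ (by
        rw [nm_smul, nm_v44 (by rcases hi with rfl | rfl; exacts [h1.symm, h2.symm])]) (by
        rw [ip_smul, ip44]; rcases hi with rfl | rfl <;> simp [h1, h2])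
      exact ⟨by rw [← (add44 i j).1, smul_add]; exact add_mem (h3 _) (h3 _),
        by rw [← (add44 i j).2, smul_sub]; exact sub_mem (h3 _) (h3 _)⟩
  rw [← smul_inv_smul g w, ← co0_smul_zsmul, eight_smul_eq, Finset.smul_sum]
  refine sum_mem fun j _ => co0_smul_zsmul g _ _ ▸ zsmul_mem ?_ _
  by_cases e : j = none ∨ j = some 0
  · exact (k j (some 1) e (by decide) (by decide)).1
  · exact (k none j (.inl rfl) (fun e' => e (.inl e')) fun e' => e (.inr e')).2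

theorem exists_sub {x u : Λ} (hx : nm x = 32) (hu : nm u = 32) (h : ip x u = 0) :
    ∃ s t, nm s = 32 ∧ nm t = 32 ∧ ip x s = 16 ∧ ip x t = 16 ∧ u = s - t := by
  obtain ⟨g, rfl, rfl⟩ := trans_pair (nm_v44 (i := none) (j := some 0) (by decide) 1 1)
    (nm_v44 (i := some 1) (j := some 2) (by decide) 1 1) hx hu (by rw [h, ip44]; decide)
  refine ⟨g • v44 none (some 1) 1 1, g • v44 none (some 2) 1 (-1), by rw [nm_smul, nm_v44 (by decide)],
    by rw [nm_smul, nm_v44 (by decide)], by rw [ip_smul, ip44]; decide, by rw [ip_smul, ip44]; decide, ?_⟩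
  rw [← smul_sub]
  congr 1; ext k
  simp only [AddSubgroup.coe_sub, Pi.sub_apply, v44_apply]
  split_ifs <;> simp

theorem cls_iff {v w : Λ} (hv : nm v = 32) (hw : nm w = 32) : cls v = cls w ↔ ip v w = 32 ∨ ip v w = -32 := by
  rw [cls_eq_iff_short hv hw]
  refine ⟨fun e => e.imp (fun e => by rw [e, ip_self, hw]) fun e => by rw [e, ip_neg_left, ip_self, hw],
    fun e => e.imp (fun e => ?_) fun e => ?_⟩
  · exact sub_eq_zero.1 (nm_eq_zero.1 (by rw [nm_sub, hv, hw, e]; rfl))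
  · exact eq_neg_of_add_eq_zero_left (nm_eq_zero.1 (by rw [nm_add, hv, hw, e]; rfl))

theorem ip_vals {v w : Λ} (hv : nm v = 32) (hw : nm w = 32) : ip v w = 32 ∨ ip v w = -32 ∨ ip v w = 16 ∨ ip v w = 8 ∨
    ip v w = 0 ∨ ip v w = -8 ∨ ip v w = -16 :=
  (ip_cases32 hv hw).imp (fun e => by rw [e, ip_self, hv]) (Or.imp_left fun e => by rw [e, ip_neg_right, ip_self, hv])

/-- Short vectors whose classes correspond. -/
def Rl (m : LL ≃+ LL) (v v' : Λ) : Prop := nm v = 32 ∧ nm v' = 32 ∧ cls v' = m (cls v)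

variable {m : LL ≃+ LL} (hp : ∀ a b, pol (m a) (m b) = pol a b) (hs : ∀ c, m c ∈ ShS ↔ c ∈ ShS) {v v' w w' x y : Λ}

theorem Rl.symm (h : Rl m v v') : Rl m.symm v' v := ⟨h.2.1, h.1, by rw [h.2.2, m.symm_apply_apply]⟩

include hp hs

theorem abs_eq (h : Rl m v v') (k : Rl m w w') : ip v' w' = ip v w ∨ ip v' w' = -ip v w := by
  have h1 := cls_iff h.2.1 k.2.1
  have h2 := add_mem_ShS h.2.1 k.2.1
  have h3 := pol_cls_iff (v := v') (w := w')
  rw [h.2.2, k.2.2] at h1 h2 h3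
  rw [m.injective.eq_iff, cls_iff h.1 k.1] at h1
  rw [← map_add, hs, add_mem_ShS h.1 k.1] at h2
  rw [hp, pol_cls_iff] at h3
  have h4 := ip_vals h.1 k.1
  have h5 := ip_vals h.2.1 k.2.1
  omega

theorem ex (h : Rl m x y) (hv : nm v = 32) : ∃ v', Rl m v v' ∧ ip y v' = ip x v := by
  obtain ⟨w, hw, e⟩ := mem_ShS.1 ((hs _).2 (cls_mem_ShS hv))
  rcases abs_eq hp hs h ⟨hv, hw, e⟩ with k | k
  exacts [⟨w, ⟨hv, hw, e⟩, k⟩, ⟨-w, ⟨hv, (nm_neg w).trans hw, (cls_neg w).trans e⟩, by rw [ip_neg_right, k, neg_neg]⟩]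

theorem sign (h : Rl m x y) (k : Rl m v v') (h1 : ip x v = 16) (h2 : ip y v' = 16) (l : Rl m w w')
    (h3 : ip y w' = ip x w) (h4 : ip x w ≠ 0) : ip w' v' = ip w v := by
  have h5 := abs_eq hp hs l k
  have h6 := abs_eq hp hs l (w := x - v) (w' := y - v') ⟨by rw [nm_sub, h.1, k.1, h1]; rfl,
    by rw [nm_sub, h.2.1, k.2.1, h2]; rfl, by rw [cls_sub, cls_sub, map_add, h.2.2, k.2.2]⟩
  rw [ip_sub_right, ip_sub_right, ip_comm w' y, ip_comm w x] at h6
  omega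

omit hp hs in
theorem eq_zero (φ : Λ → ℤ) (ha : ∀ a b, φ (a + b) = φ a + φ b) (hy : nm y = 32)
    (h : ∀ v, nm v = 32 → ip y v = 16 → φ v = 0) (w : Λ) : φ w = 0 := by
  have k := eight_mem (B := (AddMonoidHom.mk' φ ha).ker) hy h w
  rw [AddMonoidHom.mem_ker, map_zsmul, AddMonoidHom.mk'_apply, smul_eq_mul] at k
  omega

/-- The graph of the lift. -/
def Gp (m : LL ≃+ LL) (x y v v' : Λ) : Prop :=
  cls v' = m (cls v) ∧ ∀ s s', Rl m s s' → ip x s = 16 → ip y s' = 16 → ip v' s' = ip v s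

omit hp hs in
theorem Gp.add (a : Gp m x y v v') (b : Gp m x y w w') : Gp m x y (v + w) (v' + w') :=
  ⟨by rw [cls_add, cls_add, map_add, a.1, b.1], fun s s' c d e => by
    rw [ip_add_left, ip_add_left, a.2 s s' c d e, b.2 s s' c d e]⟩

omit hp hs in
theorem Gp.neg (a : Gp m x y v v') : Gp m x y (-v) (-v') :=
  ⟨by rw [cls_neg, cls_neg, a.1], fun s s' c d e => by rw [ip_neg_left, ip_neg_left, a.2 s s' c d e]⟩

theorem gp_of (h : Rl m x y) (l : Rl m w w') (a : ip y w' = ip x w) (b : ip x w ≠ 0) : Gp m x y w w' :=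
  ⟨l.2.2, fun _ _ k c d => sign hp hs h k c d l a b⟩

theorem exists_gp (h : Rl m x y) (v : Λ) : ∃ v', Gp m x y v v' := by
  have h1 : ∀ v, nm v = 32 → ip x v ≠ 0 → ∃ v', Gp m x y v v' := fun v hv h0 =>
    let ⟨v', a, b⟩ := ex hp hs h hv
    ⟨v', gp_of hp hs h a b h0⟩
  let A : AddSubgroup Λ :=
    { carrier := {v | ∃ v', Gp m x y v v'}
      zero_mem' := by
        obtain ⟨w, a⟩ := h1 x h.1 (by rw [ip_self, h.1]; decide)
        exact ⟨_, add_neg_cancel x ▸ a.add a.neg⟩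
      add_mem' := fun ⟨_, a⟩ ⟨_, b⟩ => ⟨_, a.add b⟩
      neg_mem' := fun ⟨_, a⟩ => ⟨_, a.neg⟩ }
  have h2 : A = ⊤ := eq_top_of_min fun v hv => by
    by_cases h0 : ip x v = 0
    · obtain ⟨s, t, a, b, c, d, rfl⟩ := exists_sub h.1 hv h0
      exact A.sub_mem (h1 s a (by omega)) (h1 t b (by omega))
    · exact h1 v hv h0
  exact h2.ge (AddSubgroup.mem_top v)

theorem gp_uniq (h : Rl m x y) (a : Gp m x y v w) (b : Gp m x y v w') : w = w' := by
  refine sub_eq_zero.1 (nm_eq_zero.1 ((nm_eq_ip _).trans (eq_zero (ip (w - w')) (ip_add_right _) h.2.1 (fun s' a' b' => ?_) _)))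
  obtain ⟨s, c, d⟩ := ex (m := m.symm) (fun a b => by rw [← hp]; simp) (fun c => by rw [← hs]; simp) h.symm a'
  rw [ip_sub_left, a.2 s s' c.symm (d.trans b') b', b.2 s s' c.symm (d.trans b') b', sub_self]

end Lf

open Lf in
theorem lift (m : LL ≃+ LL) (hp : ∀ a b, pol (m a) (m b) = pol a b) (hs : ∀ c, m c ∈ ShS ↔ c ∈ ShS) :
    ∃ γ : Co0, ∀ c, csm γ c = m c := by
  obtain ⟨x, hx⟩ : ∃ x, nm x = 32 := ⟨_, nm_v44 (i := none) (j := some 0) (by decide) 1 1⟩
  obtain ⟨y, hy, e⟩ := mem_ShS.1 ((hs _).2 (cls_mem_ShS hx))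
  have h : Rl m x y := ⟨hx, hy, e⟩
  choose f hf using exists_gp hp hs h
  have ha : ∀ v w, f (v + w) = f v + f w := fun v w => gp_uniq hp hs h (hf _) ((hf v).add (hf w))
  have h5 : ∀ v, nm (f v) = nm v := fun v => by
    have k := eq_zero (fun w => ip (f v) (f w) - ip v w) (fun a b => by
      rw [ha, ip_add_right, ip_add_right]; ring) hx (fun s a b => by
      obtain ⟨s', c, d⟩ := ex hp hs h a
      rw [gp_uniq hp hs h (hf s) (gp_of hp hs h c d (by omega)), (hf v).2 s s' c b (d.trans b), sub_self]) v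
    rwa [ip_self, ip_self, sub_eq_zero] at k
  refine ⟨mkCo0 (AddMonoidHom.mk' f ha) h5, fun c => ?_⟩
  obtain ⟨v, rfl⟩ := cls_surjective c
  exact (csm_cls _ v).trans ((congrArg cls (mkCo0_smul _ _ v)).trans (hf v).1)

end Cfsg.Agent.Gr7
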